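import Cfsg.Agent.H299.K4.Suz143
import Cfsg.Agent.Blocks.BlockKer
import Cfsg.Agent.H633.Principal
import Cfsg.Agent.S1694

/-!
# The character of degree 143 of `Suz`, conclusion (helper299, for S4947 and S4547)

* `exists_143` : `Suz` has an irreducible character of degree 143 with rational values.
-/

set_option autoImplicit false
set_option maxRecDepth 20000

namespace Cfsg.Agent.H299.K4.SuzX

open Cfsg Cfsg.Agent.Characters.Core Cfsg.Agent.H843.IMC
open Cfsg.Agent.LThreeCo1.AGrp Cfsg.Agent.LThreeCo1.Rel Cfsg.Agent.LThreeCo1.Class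
open Cfsg.Agent.H299.K4.Orb Cfsg.Agent.H299.K4.Wt Cfsg.Agent.H299.K4.SuzC Cfsg.Agent.H299.K4.Suz143
open Cfsg.Agent.CoOneType.ClosingFacts (mk mk_eq mk_mul)
open Cfsg.Agent.CoOneType.SignFacts Cfsg.Agent.SporadicA.Co1Simple
open Cfsg.Agent.SporadicStructure.Co0Base Cfsg.Agent.SporadicA.Co0Mono
open Cfsg.Agent.LThreeMB (XX Zx exists_mk mk_eq_mk)
open Cfsg.Spor (Co1)
open Subgroup (centralizer mem_centralizer_singleton_iff)
open scoped ComplexConjugate

/-- the image of `e 1` in `Co1` -/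
noncomputable abbrev s : Co1 := mk (e 1)

/-- the group `C(s) / ⟨s⟩ ≅ Suz` -/
abbrev X : Type := XX s

theorem comm_s (g : C) : mk (g : Co0) * s = s * mk (g : Co0) := by
  have h := mem_C.1 g.2
  show mk (g : Co0) * mk (e 1) = mk (e 1) * mk (g : Co0)
  rw [← mk_mul, ← mk_mul, h]

/-- the map to the centralizer -/
noncomputable def φ0 : C →* ↥(centralizer ({s} : Set Co1)) :=
  ((QuotientGroup.mk' (Subgroup.center Co0)).comp C.subtype).codRestrict (centralizer ({s} : Set Co1)) (fun g => by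
    rw [mem_centralizer_singleton_iff]
    exact comm_s g)

/-- the map to `X` -/
noncomputable def φ : C →* X := (QuotientGroup.mk' (Zx s)).comp φ0

theorem φ_apply (g : C) : φ g = LThreeMB.mk s (comm_s g) := rfl

theorem φ_surj : Function.Surjective φ := by
  intro q
  obtain ⟨g1, hg, rfl⟩ := exists_mk q
  obtain ⟨g, rfl⟩ := QuotientGroup.mk_surjective g1
  have h1 : e 1 * g = g * e 1 :=
    LThreeBX.NoSeven.comm_of_mk (n := 3) (by decide) (cube (i := 0) (by norm_num)) hg.symm
  exact ⟨⟨g, mem_C.2 h1.symm⟩, rfl⟩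

theorem s_cube : s ^ 3 = 1 := by
  have h := congrArg mk (cube (i := 0) (by norm_num))
  exact h

theorem allOne_comm : signCo0 allOne ∈ C := by
  rw [mem_C]
  exact (Subgroup.mem_center_iff.1 allOne_mem_center (e 1)).symm

/-- `-1` -/
noncomputable def ng : C := ⟨signCo0 allOne, allOne_comm⟩

theorem χ_ng (g : C) : χ (g * ng) = -χ g := by
  unfold χ
  have h : ρ (g * ng) * P = -(ρ g * P) := by
    have h1 : ρ (g * ng) = -ρ g := by
      show Matrix.toLin' (Cfsg.Agent.H419.LeechIrr.matC ((g : Co0) * signCo0 allOne)) =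
        -Matrix.toLin' (Cfsg.Agent.H419.LeechIrr.matC (g : Co0))
      rw [LamCo1.matC_neg, map_neg]
    apply LinearMap.ext
    intro v
    show ρ (g * ng) (P v) = -(ρ g (P v))
    rw [h1]
    rfl
  rw [h, map_neg]

theorem Θ_ng (g : C) : Θ (g * ng) = Θ g := by
  unfold Θ
  rw [χ_ng, map_neg]
  ring

theorem Θ_pow (g : C) (n : ℕ) : Θ (g * s1 ^ n) = Θ g := by
  induction n with
  | zero => rw [pow_zero, mul_one]
  | succ n ih => rw [pow_succ, ← mul_assoc, Θ_s1, ih]

theorem s1_cube : s1 ^ 3 = 1 := Subtype.ext (cube (i := 0) (by norm_num))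

theorem Θ_const {g h : C} (hgh : φ g = φ h) : Θ g = Θ h := by
  obtain ⟨i, hi⟩ := (mk_eq_mk (comm_s g) (comm_s h)).1 hgh
  obtain ⟨n, hn⟩ : ∃ n : ℕ, s ^ i = s ^ n := by
    refine ⟨(i % 3).toNat, ?_⟩
    have h1 : ((i % 3).toNat : ℤ) = i % 3 := Int.toNat_of_nonneg (Int.emod_nonneg i (by norm_num))
    rw [← zpow_natCast, h1]
    conv_lhs => rw [← Int.emod_add_mul_ediv i 3, zpow_add, zpow_mul]
    have h2 : s ^ (3 : ℤ) = 1 := by
      have := s_cube
      exact_mod_cast this
    rw [h2, one_zpow, mul_one]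
  rw [hn] at hi
  have h3 : mk (((g * s1 ^ n : C) : C) : Co0) = mk (h : Co0) := by
    rw [← hi]
    rfl
  rcases (mk_eq _ _).1 h3 with h4 | h4
  · rw [← Θ_pow g n, Subtype.ext h4]
  · have h5 : g * s1 ^ n = h * ng := Subtype.ext h4
    rw [← Θ_pow g n, h5, Θ_ng]

/-- the character of `X` -/
noncomputable def WX : X → ℂ := fun q => Θ (Function.surjInv φ_surj q)

theorem WX_φ (g : C) : WX (φ g) = Θ g := Θ_const (Function.surjInv_eq φ_surj (φ g))

theorem WX_comp : WX ∘ φ = Θ := funext WX_φ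

theorem isCharacter_WX : IsCharacter X WX := isCharacter_of_comp φ φ_surj (by rw [WX_comp]; exact isCharacter_Θ)

theorem WX_rat (q : X) : ∃ r : ℚ, WX q = r := Θ_rat _

theorem isoX : Spor.IsoSuz X := LThreeCo1Suz.Main.t0

/-- `f 1` in `X` is not trivial -/
theorem f_ne : ∃ v : E, φ (f v) ≠ 1 := by
  refine ⟨Multiplicative.ofAdd (Pi.single 1 1), fun h => ?_⟩
  have h1 : Θ (f (Multiplicative.ofAdd (Pi.single 1 1))) = 144 := by
    rw [← WX_φ, h, ← map_one φ, WX_φ, Θ_one]
  have h2 : χ (f (Multiplicative.ofAdd (Pi.single 1 1))) = ∑ i : Fin 12, zp (W i 1) := by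
    have := congrFun χ_f (Multiplicative.ofAdd (Pi.single 1 1))
    rw [Finset.sum_apply] at this
    rw [Function.comp_apply] at this
    rw [this]
    exact Finset.sum_congr rfl fun i _ => lam_single _ _
  have h3 : ∑ i : Fin 12, zp (W i 1) = -6 := by
    have e1 : ∀ i : Fin 12, zp (W i 1) = if W i 1 = 1 then ζ else ζ ^ 2 := by
      intro i
      have h4 : ∀ i : Fin 12, W i 1 = 1 ∨ W i 1 = 2 := by decide +kernel
      rcases h4 i with h5 | h5
      · rw [if_pos h5, h5, zp_one]
      · rw [if_neg (by rw [h5]; decide), h5]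
        unfold zp
        rfl
    rw [Finset.sum_congr rfl fun i _ => e1 i, Finset.sum_ite, Finset.sum_const, Finset.sum_const]
    have e2 : (Finset.univ.filter fun i : Fin 12 => W i 1 = 1).card = 6 := by decide +kernel
    have e3 : (Finset.univ.filter fun i : Fin 12 => ¬ W i 1 = 1).card = 6 := by decide +kernel
    rw [e2, e3]
    have := ζ_sum
    simp only [nsmul_eq_mul]
    push_cast
    linear_combination 6 * this
  unfold Θ at h1
  rw [h2, h3, map_neg, Complex.conj_ofNat] at h1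
  norm_num at h1

theorem exists_143 : ∃ ψ : X → ℂ, IsIrrCharacter X ψ ∧ ψ 1 = 143 ∧ ∀ q, ∃ r : ℚ, ψ q = r := by
  classical
  have hS : IsSimpleGroup X := by
    obtain ⟨g⟩ := isoX
    have : IsSimpleGroup Spor.Suz := Cfsg.Agent.S1694.result.1
    have : Nontrivial X := g.toEquiv.nontrivial
    exact IsSimpleGroup.isSimpleGroup_of_surjective (G := Spor.Suz) g.symm.toMonoidHom g.symm.surjective
  have := Fintype.ofFinite C
  have hfin : Finite X := Finite.of_surjective φ φ_surj
  have := Fintype.ofFinite X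
  obtain ⟨v0, hv0⟩ := f_ne
  have hl1 : ∀ p : PW, lam (W p.1.1 - W p.1.2) ≠ fun _ => 1 := by
    intro p h
    rw [← lam_zero] at h
    have h1 := lam_injective h
    exact p.2 (W_injective (sub_eq_zero.1 h1))
  have : Nonempty PW := ⟨⟨(0, 1), by decide⟩⟩
  obtain ⟨ψ, k, hψ1, hψ⟩ := exists_of_orbit (φ.comp f) isCharacter_WX (by
    intro η hη
    obtain ⟨K, hK, hKm⟩ := Cfsg.Agent.Blocks.BlockKer.exists_kernel η.2
    have hKt : K = ⊤ := by
      refine (hK.eq_bot_or_eq_top).resolve_left fun h => hv0 ?_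
      have h1 : φ (f v0) ∈ K := (hKm _).2 (hη v0)
      rw [h] at h1
      exact Subgroup.mem_bot.1 h1
    exact Cfsg.Agent.H633.Principal.eq_one_of_ker_top η fun g => (hKm g).1 (by rw [hKt]; exact Subgroup.mem_top g))
    (A := PW) (fun p => lam (W p.1.1 - W p.1.2)) (fun p => isIrr_lam _) (by
      intro p q h
      exact Subtype.ext (diff_inj p.2 q.2 (lam_injective h))) hl1 12 (by
      rw [← Θ_f, ← WX_comp]
      rfl) (fun p q => (mvD_all p.2 q.2).comp φ)
  have h1 : IsIrrCharacter C ((ψ : X → ℂ) ∘ φ) := isIrr_comp φ φ_surj ψ.2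
  have hk : (k : ℂ) = 1 := by
    have h2 : Θ = (k : ℂ) • (fun _ => (1 : ℂ)) + (ψ : X → ℂ) ∘ φ := by
      funext g
      rw [← WX_φ, hψ, Pi.add_apply, Pi.smul_apply, smul_eq_mul, mul_one]
      rfl
    have h3 : classInner Θ (fun _ => (1 : ℂ)) = classInner χ χ := by
      rw [classInner_def, classInner_def]
      congr 1
      refine Finset.sum_congr rfl fun g _ => ?_
      rw [map_one, mul_one]
      rfl
    rw [classInner_irr_self isIrr_χ, h2, classInner_add_left, classInner_smul_left,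
      classInner_irr_self Cfsg.Agent.Blocks.Basic.isIrrCharacter_one,
      classInner_irr_ne h1 Cfsg.Agent.Blocks.Basic.isIrrCharacter_one, add_zero, mul_one] at h3
    · exact h3
    · intro h4
      apply hψ1
      funext q
      obtain ⟨g, rfl⟩ := φ_surj q
      exact congrFun h4 g
  refine ⟨ψ, ψ.2, ?_, fun q => ?_⟩
  · have h2 := hψ 1
    rw [← map_one φ, WX_φ, Θ_one, hk] at h2
    rw [← map_one φ]
    linear_combination -h2
  · obtain ⟨r, hr⟩ := WX_rat q
    refine ⟨r - 1, ?_⟩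
    have h2 := hψ q
    rw [hr, hk] at h2
    push_cast
    linear_combination -h2

end Cfsg.Agent.H299.K4.SuzX
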