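import Cfsg.Agent.SmallSimple.TheoremBCor
import Cfsg.Agent.M22.Degrees
import Cfsg.Agent.J2Type.SylowSeven
import Cfsg.Agent.H329.K4.SigCol

/-!
# Values at a self-centralizing Sylow subgroup of prime order (helper299, for S4947 and S4547)

* `val_of_const` : a constant integral value on `P ∖ 1` is `0` or `±1`;
* `residue` : the same for a character invariant under the Galois group, with the residue of the degree;
* `pow_good` : the Galois conjugates of a good character are good;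
* `inv_of_four` : if all the good characters are among four, three of which are Galois invariant, they all are.
-/

set_option autoImplicit false

namespace Cfsg.Agent.H299.K4.Const

open Cfsg Subgroup Cfsg.Agent.Characters.Core Cfsg.Agent.Characters Cfsg.Agent.H601.K4 Cfsg.Agent.H329.K4
  Cfsg.Agent.H601.OddDeg

universe u

section gen

variable {G : Type u} [Group G] [Finite G]

theorem sum_linear {P : Type u} [Group P] [Fintype P] (l : P →* ℂˣ) (hl : l ≠ 1) : ∑ x : P, ((l x : ℂˣ) : ℂ) = 0 := by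
  have h : ((Units.coeHom ℂ).comp l) ≠ 1 := by
    intro h
    apply hl
    apply MonoidHom.ext
    intro x
    apply Units.ext
    have := DFunLike.congr_fun h x
    exact this
  exact sum_hom_units_eq_zero ((Units.coeHom ℂ).comp l) h

/-- A constant value on a self-centralizing Sylow subgroup of prime order. -/
theorem val_of_const (p : ℕ) [hp : Fact p.Prime] (hp2 : p ≠ 2) (P : Sylow p G) (hP : Nat.card P = p)
    (hC : centralizer (P : Set G) = (P : Subgroup G)) (χ : IrrCharacter G) (z : ℤ)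
    (hz : ∀ x ∈ P, x ≠ 1 → (χ : G → ℂ) x = z) : z = 0 ∨ z = 1 ∨ z = -1 := by
  classical
  have hp' := hp.out
  have hd := Cfsg.Agent.J2Type.SylowSeven.relIndex_dvd_of_card_prime (P : Subgroup G) hp' hP
  obtain ⟨t, ht⟩ := hd
  set e := (centralizer ((P : Subgroup G) : Set G)).relIndex (normalizer ((P : Subgroup G) : Set G)) with he
  obtain ⟨NE, X, ε, d, S, -, -, -, hε, hdd, -, hval, hexc, -, -, hrest⟩ :=
    Cfsg.Agent.SmallSimple.TheoremBCor.theoremB_selfCent p hp2 P hP hC e t he.symm ht.symm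
  have hex : ∃ x ∈ P, x ≠ 1 := by
    have h1 : Nontrivial P := by
      rw [← Finite.one_lt_card_iff_nontrivial, hP]
      exact hp'.one_lt
    obtain ⟨x, hx⟩ := exists_ne (1 : P)
    exact ⟨x, x.2, fun h => hx (Subtype.ext h)⟩
  obtain ⟨x, hxP, hx1⟩ := hex
  by_cases hN : χ ∈ NE
  · have h1 := hval χ hN x hxP hx1
    rw [hz x hxP hx1] at h1
    have h2 : z = ε χ := by exact_mod_cast h1
    rw [h2]
    exact Or.inr (hε χ hN)
  by_cases hX : χ ∈ X
  · obtain ⟨h1, h2, h3⟩ := hexc χ hX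
    have := Fintype.ofFinite P
    have h4 : ∑ y ∈ (Finset.univ : Finset P).erase 1, (χ : G → ℂ) (y : G) = ((p - 1 : ℕ) : ℂ) * z := by
      have hc1 : ∑ y ∈ (Finset.univ : Finset P).erase 1, (χ : G → ℂ) (y : G) =
          ∑ _y ∈ (Finset.univ : Finset P).erase 1, (z : ℂ) :=
        Finset.sum_congr rfl fun y hy => hz y y.2 fun h => (Finset.mem_erase.1 hy).1 (Subtype.ext h)
      rw [hc1, Finset.sum_const, nsmul_eq_mul, Finset.card_erase_of_mem (Finset.mem_univ _), Finset.card_univ,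
        ← Nat.card_eq_fintype_card, hP]
    have h5 : ∑ y ∈ (Finset.univ : Finset P).erase 1, (χ : G → ℂ) (y : G) = -(d : ℂ) * e := by
      have h6 : ∑ y ∈ (Finset.univ : Finset P).erase 1, (χ : G → ℂ) (y : G) =
          ∑ y ∈ (Finset.univ : Finset P).erase 1, (d : ℂ) * ∑ l ∈ S χ, ((l y : ℂˣ) : ℂ) :=
        Finset.sum_congr rfl fun y hy => h3 y (Finset.mem_erase.1 hy).1
      have h7 : ∑ y : P, (d : ℂ) * ∑ l ∈ S χ, ((l y : ℂˣ) : ℂ) = 0 := by
        rw [← Finset.mul_sum, Finset.sum_comm, Finset.sum_eq_zero, mul_zero]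
        intro l hl
        exact sum_linear l fun h => h2 (h ▸ hl)
      have h8 := Finset.add_sum_erase Finset.univ (fun y : P => (d : ℂ) * ∑ l ∈ S χ, ((l y : ℂˣ) : ℂ))
        (Finset.mem_univ (1 : P))
      replace h8 := h8.trans h7
      have h9 : (d : ℂ) * ∑ l ∈ S χ, ((l (1 : P) : ℂˣ) : ℂ) = d * e := by
        rw [Finset.sum_congr rfl (g := fun _ => (1 : ℂ)) (fun l _ => by rw [map_one, Units.val_one]), Finset.sum_const,
          h1, nsmul_eq_mul, mul_one]
      rw [h6]
      simp only [h9] at h8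
      linear_combination h8
    rw [h4] at h5
    have h6 : ((p - 1 : ℕ) : ℤ) * z = -d * e := by exact_mod_cast h5
    have h7 : (p - 1 : ℕ) ≠ 0 := by have := hp'.one_lt; omega
    have h8 : e ≤ p - 1 := Nat.le_of_dvd (by omega) ⟨t, ht⟩
    have h9 : |((p - 1 : ℕ) : ℤ) * z| ≤ ((p - 1 : ℕ) : ℤ) := by
      rw [h6]
      rcases hdd with h10 | h10 <;> rw [h10] <;> simp <;> exact_mod_cast h8
    have h10 : |z| ≤ 1 := by
      rw [abs_mul, Nat.abs_cast] at h9
      have h11 : (0 : ℤ) < ((p - 1 : ℕ) : ℤ) := by exact_mod_cast Nat.pos_of_ne_zero h7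
      by_contra hcon
      push Not at hcon
      nlinarith
    have h11 := abs_le.1 h10
    omega
  · have h1 := (hrest χ hN hX).1 x hxP hx1
    rw [hz x hxP hx1] at h1
    left
    exact_mod_cast h1

/-- Powers of an element of prime order. -/
theorem exists_coprime {p : ℕ} (hp : p.Prime) {x : G} (hx : orderOf x = p) {y : G} (hy : y ∈ zpowers x) (hy1 : y ≠ 1) :
    ∃ k : ℕ, k.Coprime (Nat.card G) ∧ x ^ k = y := by
  classical
  obtain ⟨j, rfl⟩ := mem_powers_iff_mem_zpowers.2 hy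
  have hj : ¬ p ∣ j := by
    intro h
    apply hy1
    show x ^ j = 1
    rw [← orderOf_dvd_iff_pow_eq_one, hx]
    exact h
  have hk : (orderOf x).Coprime j := by
    rw [hx]
    exact (Nat.Prime.coprime_iff_not_dvd hp).2 hj
  let u : (ZMod (orderOf x))ˣ := ZMod.unitOfCoprime j hk.symm
  have : NeZero (Nat.card G) := ⟨Nat.card_pos.ne'⟩
  obtain ⟨w, hw⟩ := ZMod.unitsMap_surjective (orderOf_dvd_natCard x) u
  refine ⟨(w : ZMod (Nat.card G)).val, ZMod.val_coe_unit_coprime w, ?_⟩
  show x ^ _ = x ^ j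
  refine pow_eq_pow_iff_modEq.2 ?_
  rw [← ZMod.natCast_eq_natCast_iff]
  have h4 := congrArg Units.val hw
  rw [ZMod.unitsMap_val] at h4
  rw [ZMod.coe_unitOfCoprime] at h4
  rw [← h4, ← ZMod.cast_eq_val]

/-- The value of a Galois invariant character at a self-centralizing element of prime order. -/
theorem residue (p : ℕ) [hp : Fact p.Prime] (hp2 : p ≠ 2) {m : ℕ} (hcard : Nat.card G = p * m) (hm : ¬ p ∣ m)
    {x : G} (hx : orderOf x = p) (hxc : Nat.card (centralizer ({x} : Set G)) = p) (χ : IrrCharacter G)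
    (hinv : ∀ k : ℕ, k.Coprime (Nat.card G) → ∀ g, (χ : G → ℂ) (g ^ k) = (χ : G → ℂ) g) :
    ∃ z : ℤ, (z = 0 ∨ z = 1 ∨ z = -1) ∧ (χ : G → ℂ) x = z ∧ (p : ℤ) ∣ (charDegree (χ : G → ℂ) : ℤ) - z := by
  classical
  have hp' := hp.out
  -- the Sylow subgroup
  have hz : Nat.card (zpowers x) = p := by rw [Nat.card_zpowers, hx]
  obtain ⟨P, hPx⟩ := (IsPGroup.of_card (n := 1) (by rw [hz, pow_one]) : IsPGroup p (zpowers x)).exists_le_sylow
  have hPc : Nat.card P = p := Cfsg.Agent.M22.Degrees.card_sylow_eq hcard hm P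
  have hPe : (P : Subgroup G) = zpowers x :=
    (Subgroup.eq_of_le_of_card_ge hPx (by rw [hPc, hz])).symm
  have hC : centralizer (P : Set G) = (P : Subgroup G) := by
    have h1 : centralizer ({x} : Set G) = (P : Subgroup G) := by
      refine (Subgroup.eq_of_le_of_card_ge ?_ (by rw [hPc, hxc])).symm
      rw [hPe, zpowers_le]
      exact mem_centralizer_singleton_iff.2 rfl
    rw [← h1]
    apply le_antisymm
    · exact centralizer_le (by rw [Set.singleton_subset_iff]; exact hPx (mem_zpowers x))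
    · rw [h1]
      intro y hy z hzP
      have hy' : y ∈ zpowers x := hPe ▸ hy
      have hz' : z ∈ zpowers x := hPe ▸ hzP
      obtain ⟨i, rfl⟩ := hy'
      obtain ⟨j, rfl⟩ := hz'
      exact ((Commute.refl x).zpow_zpow j i).eq
  have hconst : ∀ y ∈ P, y ≠ 1 → (χ : G → ℂ) y = (χ : G → ℂ) x := by
    intro y hy hy1
    obtain ⟨k, hk, rfl⟩ := exists_coprime hp' hx (hPe ▸ hy : y ∈ zpowers x) hy1
    exact hinv k hk x
  -- the value is an integer
  have := Fintype.ofFinite P
  obtain ⟨z, hz⟩ : ∃ z : ℤ, (χ : G → ℂ) x = z := by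
    obtain ⟨n, hn⟩ := Cfsg.Agent.M22.BDataOfBlocks.exists_sum_eq (isIrr_isCharacter χ.2) (P : Subgroup G)
    have hsp := Finset.add_sum_erase Finset.univ (fun y : ↥(P : Subgroup G) => (χ : G → ℂ) (y : G))
      (Finset.mem_univ 1)
    have hc1 : ∑ y ∈ (Finset.univ : Finset ↥(P : Subgroup G)).erase 1, (χ : G → ℂ) (y : G) =
        ∑ _y ∈ (Finset.univ : Finset ↥(P : Subgroup G)).erase 1, (χ : G → ℂ) x :=
      Finset.sum_congr rfl fun y hy => hconst y y.2 fun h => (Finset.mem_erase.1 hy).1 (Subtype.ext h)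
    rw [← hsp, hc1, Finset.sum_const, nsmul_eq_mul, Finset.card_erase_of_mem (Finset.mem_univ _), Finset.card_univ,
      ← Nat.card_eq_fintype_card] at hn
    have h1 : (χ : G → ℂ) ((1 : ↥(P : Subgroup G)) : G) = (charDegree (χ : G → ℂ) : ℂ) := by
      rw [OneMemClass.coe_one]
      exact Cfsg.Agent.Blocks.Basic.irr_one_eq_charDegree χ.2
    have hPc' : Nat.card ↥(P : Subgroup G) = p := hPc
    rw [h1, hPc'] at hn
    refine GaloisBasic.exists_int_of_isIntegral (GaloisBasic.isIntegral_apply (isIrr_isCharacter χ.2) x)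
      ⟨((p : ℚ) * n - charDegree (χ : G → ℂ)) / ((p - 1 : ℕ) : ℚ), ?_⟩
    have h2 : ((p - 1 : ℕ) : ℂ) ≠ 0 := by
      have := hp'.one_lt
      exact Nat.cast_ne_zero.2 (by omega)
    push_cast at hn ⊢
    field_simp
    linear_combination hn
  refine ⟨z, ?_, hz, ?_⟩
  · exact val_of_const p hp2 P hPc hC χ z fun y hy hy1 => by rw [hconst y hy hy1, hz]
  · exact Cfsg.Agent.M22.BDataOfBlocks.dvd_of_const (P : Subgroup G) hPc χ z fun y hy hy1 => by
      rw [hconst y hy hy1, hz]

end gen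

section good

variable {S : Type u} [Group S] [Finite S]

/-- the Galois conjugates of a good character -/
theorem pow_good (hC : TwoC S) {χ : S → ℂ} (h : Good χ) {k : ℕ} (hk : k.Coprime (Nat.card S)) :
    Good (fun g => χ (g ^ k)) := by
  have h1 : IsIrrCharacter S (fun g => χ (g ^ k)) := GaloisIrr.isIrr_pow hk h.odd.1
  have h2 : charDegree (fun g => χ (g ^ k)) = charDegree χ := by
    show ⌊(χ (1 ^ k)).re⌋₊ = ⌊(χ 1).re⌋₊
    rw [one_pow]
  refine good_of hC ⟨h1, by rw [h2]; exact h.odd.2⟩ ?_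
  intro j h3 h4 g
  show χ ((g ^ j) ^ k) = χ (g ^ k)
  rw [← pow_mul, mul_comm, pow_mul]
  exact h.sig j h3 h4 (g ^ k)

/-- If all good characters are in `{a, b, c, d}`, and `a, b, c` are Galois invariant, so is `d`. -/
theorem inv_of_four (hC : TwoC S) {a b c d : S → ℂ} (hd : Good d)
    (ha : ∀ k : ℕ, k.Coprime (Nat.card S) → ∀ g, a (g ^ k) = a g)
    (hb : ∀ k : ℕ, k.Coprime (Nat.card S) → ∀ g, b (g ^ k) = b g)
    (hc : ∀ k : ℕ, k.Coprime (Nat.card S) → ∀ g, c (g ^ k) = c g) (had : d ≠ a) (hbd : d ≠ b) (hcd : d ≠ c)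
    (hall : ∀ χ : S → ℂ, Good χ → χ = a ∨ χ = b ∨ χ = c ∨ χ = d) :
    ∀ k : ℕ, k.Coprime (Nat.card S) → ∀ g, d (g ^ k) = d g := by
  intro k hk g
  have hkey : ∀ χ : S → ℂ, (∀ k : ℕ, k.Coprime (Nat.card S) → ∀ g, χ (g ^ k) = χ g) → (fun g => d (g ^ k)) = χ →
      d = χ := by
    intro χ hχ h
    funext y
    obtain ⟨x, rfl⟩ := (powCoprime (G := S) hk.symm).surjective y
    show d (x ^ k) = χ (x ^ k)
    rw [hχ k hk x]
    exact congrFun h x
  rcases hall _ (pow_good hC hd hk) with h | h | h | h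
  · exact absurd (hkey a ha h) had
  · exact absurd (hkey b hb h) hbd
  · exact absurd (hkey c hc h) hcd
  · exact congrFun h g

end good

end Cfsg.Agent.H299.K4.Const
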