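import Cfsg.Agent.H299.K4.SuzX
import Cfsg.Agent.H299.K4.Const
import Cfsg.Agent.H978.TZ.Suz
import Cfsg.Agent.H989.TwoCSpor
import Cfsg.Agent.H740.K4.Four
import Cfsg.Agent.H348.PPD.RowSuz

/-!
# K4 rows (S4947, S4547): the Suzuki group `Suz` (helper299)

The rational characters `1`, `143`, `1001` vanish at the elements of order 11 and 13 (except `1`); if there are at most
four good characters, the fourth one is rational, its values at these elements are `±1`, and its degree is an odd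
divisor of the order, congruent to `±1` modulo 11 and 13: it is 1.
-/

set_option autoImplicit false

namespace Cfsg.Agent.H299.K4.SuzRow

open Cfsg Cfsg.Agent.Characters.Core Cfsg.Agent.Characters Cfsg.Agent.H601.K4 Cfsg.Agent.H329.K4
  Cfsg.Agent.H601.OddDeg Cfsg.Agent.H299.K4.Const Subgroup
open Cfsg.Spor (Suz)
open Cfsg.Agent.H978.TZ.Suzuki (finS exists_chars eq_of_sum)
open Cfsg.Agent.SporadicRecognition.SuzOrder (card_Suz)

universe u

theorem card_suz : Nat.card Suz = 448345497600 := Cfsg.Agent.NotCT.Orders.suz ⟨MulEquiv.refl _⟩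

/-- Galois invariance from rationality. -/
theorem inv_of_rat {G : Type*} [Group G] [Finite G] {χ : G → ℂ} (hχ : IsCharacter G χ) (hq : ∀ g, ∃ q : ℚ, χ g = q) :
    ∀ k : ℕ, k.Coprime (Nat.card G) → ∀ g, χ (g ^ k) = χ g := by
  intro k hk g
  obtain ⟨σ, hσ⟩ := GaloisBasic.exists_ringEquiv_of_coprime hk
  obtain ⟨q, hq⟩ := hq g
  rw [← hσ χ hχ g, hq, map_ratCast]

open Cfsg.Agent.SporRec.SuzCl in
theorem card_Fx_pow [Finite Suz] {k : ℕ} (hk : k.Coprime (Nat.card Suz)) (x : Suz) :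
    (Fx (x ^ k)).card = (Fx x).card := by
  obtain ⟨y, hy⟩ : ∃ l : ℕ, (x ^ k) ^ l = x := by
    have h1 : (orderOf x).Coprime k := (hk.coprime_dvd_right (orderOf_dvd_natCard x)).symm
    obtain ⟨l, hl⟩ := exists_pow_eq_self_of_coprime h1.symm
    exact ⟨l, hl⟩
  have key : ∀ (z : Suz) (n p : ℕ), Cfsg.Agent.SporadicRecognition.SuzPhi.φ z p = p →
      Cfsg.Agent.SporadicRecognition.SuzPhi.φ (z ^ n) p = p := by
    intro z n p hp
    rw [map_pow]
    induction n with
    | zero => rfl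
    | succ n ih => rw [pow_succ, Equiv.Perm.mul_apply, hp, ih]
  refine congrArg Finset.card (Finset.ext fun p => ?_)
  rw [Cfsg.Agent.CpAutSuz.Fix.mem_Fx, Cfsg.Agent.CpAutSuz.Fix.mem_Fx]
  constructor
  · rintro ⟨h1, h2⟩
    refine ⟨h1, ?_⟩
    have := key (x ^ k) y p h2
    rwa [hy] at this
  · rintro ⟨h1, h2⟩
    exact ⟨h1, key x k p h2⟩

/-- the character of degree 1001 -/
theorem exists_1001 : ∃ β : Suz → ℂ, IsIrrCharacter Suz β ∧ β 1 = 1001 ∧
    ∀ k : ℕ, k.Coprime (Nat.card Suz) → ∀ g, β (g ^ k) = β g := by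
  have := finS
  obtain ⟨χ, ψ, h1, h2, hfx⟩ := exists_chars
  refine ⟨ψ, ψ.2, h2, fun k hk g => ?_⟩
  have k1 : IsIrrCharacter Suz (fun g => (χ : Suz → ℂ) (g ^ k)) := GaloisIrr.isIrr_pow hk χ.2
  have k2 : IsIrrCharacter Suz (fun g => (ψ : Suz → ℂ) (g ^ k)) := GaloisIrr.isIrr_pow hk ψ.2
  have h := (eq_of_sum χ.2 ψ.2 k1 k2 (fun x => ?_) ?_ ?_).symm
  · exact congrFun h g
  · rw [← hfx]
    show _ = 1 + (χ : Suz → ℂ) (x ^ k) + (ψ : Suz → ℂ) (x ^ k)
    rw [← hfx, card_Fx_pow hk]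
  · show (χ : Suz → ℂ) 1 ≠ (ψ : Suz → ℂ) (1 ^ k)
    rw [one_pow, h1, h2]
    norm_num
  · show (χ : Suz → ℂ) (1 ^ k) ≠ (ψ : Suz → ℂ) (1 ^ k)
    rw [one_pow, h1, h2]
    norm_num

/-- the character of degree 143 -/
theorem exists_143' : ∃ α : Suz → ℂ, IsIrrCharacter Suz α ∧ α 1 = 143 ∧ ∀ g, ∃ q : ℚ, α g = q := by
  obtain ⟨ψ, h1, h2, h3⟩ := SuzX.exists_143
  obtain ⟨e⟩ := SuzX.isoX
  refine ⟨ψ ∘ e.symm, isIrr_comp e.symm.toMonoidHom e.symm.surjective h1, ?_, fun g => h3 _⟩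
  show ψ (e.symm 1) = 143
  rw [map_one, h2]

theorem table : ∀ i < 8, ∀ m ∈ Nat.divisors 175, ((3 ^ i * m) % 11 = 1 ∨ (3 ^ i * m) % 11 = 10) →
    ((3 ^ i * m) % 13 = 1 ∨ (3 ^ i * m) % 13 = 12) → 3 ^ i * m = 1 := by decide +kernel

theorem num {d : ℕ} (hd : d ∣ 448345497600) (h2 : ¬ 2 ∣ d) (h11 : d % 11 = 1 ∨ d % 11 = 10)
    (h13 : d % 13 = 1 ∨ d % 13 = 12) : d = 1 := by
  have e1 : 448345497600 = 2 ^ 13 * (11 * (13 * 382725)) := by norm_num
  rw [e1] at hd
  have c1 : d.Coprime (2 ^ 13) := Nat.Coprime.pow_right 13 ((Nat.Prime.coprime_iff_not_dvd Nat.prime_two).2 h2).symm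
  have c2 : d.Coprime 11 := ((Nat.Prime.coprime_iff_not_dvd (by norm_num)).2 (by omega)).symm
  have c3 : d.Coprime 13 := ((Nat.Prime.coprime_iff_not_dvd (by norm_num)).2 (by omega)).symm
  have h3 : d ∣ 382725 := c3.dvd_of_dvd_mul_left (c2.dvd_of_dvd_mul_left (c1.dvd_of_dvd_mul_left hd))
  rw [show 382725 = 3 ^ 7 * 175 by norm_num] at h3
  obtain ⟨a, b, ha, hb, rfl⟩ := (Nat.dvd_mul).1 h3
  obtain ⟨i, hi, rfl⟩ := (Nat.dvd_prime_pow Nat.prime_three).1 ha
  exact table i (by omega) b (Nat.mem_divisors.2 ⟨hb, by norm_num⟩) h11 h13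

theorem exists_cent {p : ℕ} (hp : p = 11 ∨ p = 13) :
    ∃ x : Suz, orderOf x = p ∧ Nat.card (centralizer ({x} : Set Suz)) = p := by
  have := finS
  rcases hp with rfl | rfl
  · exact Cfsg.Agent.H348.PPD.RowSuz.cent11
  · have : Fact (Nat.Prime 13) := ⟨by norm_num⟩
    obtain ⟨x, hx⟩ := exists_prime_orderOf_dvd_card' (G := Suz) 13 (by rw [card_suz]; norm_num)
    exact ⟨x, hx, Cfsg.Agent.H153.Zeros.card_cent_suz hx⟩

/-- **`Suz`** -/
theorem good5_model : Good5 Suz := by
  classical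
  have := finS
  have hC : TwoC Suz := Cfsg.Agent.H989.TwoCSpor.twoC_suz ⟨MulEquiv.refl _⟩
  have hev : Even (Nat.card Suz) := by rw [card_suz]; decide
  obtain ⟨α, ha1, ha2, ha3⟩ := exists_143'
  obtain ⟨β, hb1, hb2, hb3⟩ := exists_1001
  have da : charDegree α = 143 := Cfsg.Agent.Blocks.Basic.charDegree_of_eq (by rw [ha2]; norm_num)
  have db : charDegree β = 1001 := Cfsg.Agent.Blocks.Basic.charDegree_of_eq (by rw [hb2]; norm_num)
  have ga : Good α := good_of_rat hC ⟨ha1, by rw [da]; decide⟩ ha3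
  have gb : Good β := good_of hC ⟨hb1, by rw [db]; decide⟩ (SigFix.of_pow hb3)
  have g1 : Good (fun _ : Suz => (1 : ℂ)) := good_one hC
  have n1 : (fun _ : Suz => (1 : ℂ)) ≠ α := fun h => by
    have := congrFun h 1
    rw [ha2] at this
    norm_num at this
  have n2 : (fun _ : Suz => (1 : ℂ)) ≠ β := fun h => by
    have := congrFun h 1
    rw [hb2] at this
    norm_num at this
  have n3 : α ≠ β := fun h => by
    have := congrFun h 1
    rw [ha2, hb2] at this
    norm_num at this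
  -- the values of `α` and `β`
  have hz : ∀ (p : ℕ), p = 11 ∨ p = 13 → ∀ x : Suz, orderOf x = p → α x = 0 ∧ β x = 0 := by
    intro p hp x hx
    have hpp : p.Prime := by rcases hp with rfl | rfl <;> norm_num
    have h1 : p ^ 1 ∣ Nat.card Suz := by rw [card_suz]; rcases hp with rfl | rfl <;> norm_num
    have h2 : ¬ p ^ (1 + 1) ∣ Nat.card Suz := by rw [card_suz]; rcases hp with rfl | rfl <;> norm_num
    constructor
    · exact H740.K4.zero_of_dvd hpp h1 h2 ha1 (d := 143) (by rw [ha2]; norm_num)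
        (by rcases hp with rfl | rfl <;> norm_num) (by rw [hx])
    · exact H740.K4.zero_of_dvd hpp h1 h2 hb1 (d := 1001) (by rw [hb2]; norm_num)
        (by rcases hp with rfl | rfl <;> norm_num) (by rw [hx])
  obtain ⟨x, hx, hxc⟩ := exists_cent (p := 11) (Or.inl rfl)
  obtain ⟨y, hy, hyc⟩ := exists_cent (p := 13) (Or.inr rfl)
  have hxo : Odd (orderOf x) := by rw [hx]; decide
  have hyo : Odd (orderOf y) := by rw [hy]; decide
  -- the fourth one
  obtain ⟨γ, hγ, hγs⟩ := exists_new hC hev {(fun _ : Suz => (1 : ℂ)), α, β} (by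
    intro χ h
    simp only [Finset.mem_insert, Finset.mem_singleton] at h
    rcases h with rfl | rfl | rfl
    · exact g1
    · exact ga
    · exact gb) hxo (n := 1) (by decide) (by
      rw [Finset.sum_insert (by simp [n1, n2]), Finset.sum_insert (by simp [n3]), Finset.sum_singleton,
        (hz 11 (Or.inl rfl) x hx).1, (hz 11 (Or.inl rfl) x hx).2]
      norm_num)
  simp only [Finset.mem_insert, Finset.mem_singleton, not_or] at hγs
  obtain ⟨m1, m2, m3⟩ := hγs
  obtain ⟨s, hs⟩ : ∃ s : Finset (Suz → ℂ), s = {(fun _ : Suz => (1 : ℂ)), α, β, γ} := ⟨_, rfl⟩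
  have hgs : ∀ χ ∈ s, Good χ := by
    intro χ h
    rw [hs] at h
    simp only [Finset.mem_insert, Finset.mem_singleton] at h
    rcases h with rfl | rfl | rfl | rfl
    · exact g1
    · exact ga
    · exact gb
    · exact hγ
  have hsum : ∀ t : Suz, ∑ χ ∈ s, χ t = 1 + (α t + (β t + γ t)) := by
    intro t
    rw [hs, Finset.sum_insert (by simp [n1, n2, Ne.symm m1]), Finset.sum_insert (by simp [n3, Ne.symm m2]),
      Finset.sum_insert (by simp [Ne.symm m3]), Finset.sum_singleton]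
  have hcs : s.card = 4 := by
    rw [hs, Finset.card_insert_of_notMem (by simp [n1, n2, Ne.symm m1]),
      Finset.card_insert_of_notMem (by simp [n3, Ne.symm m2]), Finset.card_insert_of_notMem (by simp [Ne.symm m3]),
      Finset.card_singleton]
  by_cases hnew : ∃ χ : Suz → ℂ, Good χ ∧ χ ∉ s
  · obtain ⟨χ, h1, h2⟩ := hnew
    refine good5_of_finset (insert χ s) (fun η hη => ?_) (by rw [Finset.card_insert_of_notMem h2, hcs])
    rcases Finset.mem_insert.1 hη with rfl | h3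
    · exact h1
    · exact hgs η h3
  exfalso
  push Not at hnew
  have hall : ∀ χ : Suz → ℂ, Good χ → χ = (fun _ => 1) ∨ χ = α ∨ χ = β ∨ χ = γ := by
    intro χ h
    have h1 := hnew χ h
    rw [hs] at h1
    simpa only [Finset.mem_insert, Finset.mem_singleton] using h1
  have hinv := inv_of_four hC hγ (fun _ _ _ => rfl) (inv_of_rat (isIrr_isCharacter ha1) ha3) hb3 m1 m2 m3 hall
  -- the residues
  have hres : ∀ p : ℕ, p = 11 ∨ p = 13 → ∀ t : Suz, orderOf t = p → Nat.card (centralizer ({t} : Set Suz)) = p →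
      charDegree γ % p = 1 ∨ charDegree γ % p = p - 1 := by
    intro p hp t ht htc
    have hpp : Fact p.Prime := ⟨by rcases hp with rfl | rfl <;> norm_num⟩
    obtain ⟨m, hm, hmd⟩ : ∃ m, Nat.card Suz = p * m ∧ ¬ p ∣ m := by
      rw [card_suz]
      rcases hp with rfl | rfl
      · exact ⟨40758681600, by norm_num, by norm_num⟩
      · exact ⟨34488115200, by norm_num, by norm_num⟩
    obtain ⟨z, hz3, hzv, hzd⟩ := residue p (by rcases hp with rfl | rfl <;> norm_num) hm hmd ht htc ⟨γ, hγ.odd.1⟩ hinv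
    have hzne : z ≠ 0 := by
      rintro rfl
      obtain ⟨χ, h1, h2⟩ := exists_new hC hev s hgs (t := t) (by rw [ht]; rcases hp with rfl | rfl <;> decide) (n := 1)
        (by decide) (by
          rw [hsum, (hz p hp t ht).1, (hz p hp t ht).2]
          have : γ t = ((0 : ℤ) : ℂ) := hzv
          rw [this]
          norm_num)
      exact h2 (hnew χ h1)
    have hzd : (p : ℤ) ∣ (charDegree γ : ℤ) - z := hzd
    rcases hz3 with h | rfl | rfl
    · exact absurd h hzne
    · left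
      rcases hp with rfl | rfl <;> omega
    · right
      rcases hp with rfl | rfl <;> omega
  have h11 := hres 11 (Or.inl rfl) x hx hxc
  have h13 := hres 13 (Or.inr rfl) y hy hyc
  have hdeg : charDegree γ ∣ 448345497600 := by
    rw [← card_suz]
    exact Cfsg.Agent.Blocks.Knorr.charDegree_dvd hγ.odd.1
  have hd1 := num hdeg hγ.odd.2 (by simpa using h11) (by simpa using h13)
  have hs : IsSimpleGroup Suz := Cfsg.Agent.S1694.result.1
  have hlast := Cfsg.Agent.M22.Degrees.eq_one_of_charDegree (G := Suz) (by rw [card_suz]; norm_num) ⟨γ, hγ.odd.1⟩ hd1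
  apply m1
  exact congrArg Subtype.val hlast

/-- **Row `Suz`.** -/
theorem good5 {S : Type u} [Group S] (h : Spor.IsoSuz S) : Good5 S := by
  have := finS
  obtain ⟨e⟩ := id h
  have : Finite S := Finite.of_equiv _ e.symm.toEquiv
  exact good5_of_equiv (Cfsg.Agent.H989.TwoCSpor.twoC_suz h) e good5_model

end Cfsg.Agent.H299.K4.SuzRow
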