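import Cfsg.Agent.H843.IMC.Orb
import Cfsg.Agent.H843.IMC.AltK

/-!
# A character whose restriction is a trivial part plus a single orbit (helper299, for S4947 and S4547)

* `Mv f μ ν` : `ν` is the image of `μ` under an element normalising `f`;
* `exists_of_orbit` : the restriction of `W` is `m • 1` plus an orbit of distinct irreducible characters, and the
  irreducible characters trivial on `f(E)` are trivial: `W = k • 1 + ψ`, `ψ` irreducible.
* `isCharacter_of_comp` : a character of a quotient.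
-/

set_option autoImplicit false

namespace Cfsg.Agent.H299.K4.Orb

open Cfsg Cfsg.Agent.Characters.Core Cfsg.Agent.H843.IMC
open scoped ComplexConjugate

section mv

variable {G : Type*} [Group G] {E : Type*} [Group E]

/-- `ν` is the image of `μ` under an element normalising `f`. -/
def Mv (f : E →* G) (μ ν : E → ℂ) : Prop :=
  ∃ (x : G) (σ : E ≃* E), (∀ e, f (σ e) = x * f e * x⁻¹) ∧ ν = μ ∘ σ

theorem Mv.refl (f : E →* G) (μ : E → ℂ) : Mv f μ μ :=
  ⟨1, MulEquiv.refl E, fun e => by simp, by rfl⟩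

theorem Mv.trans {f : E →* G} {μ ν ξ : E → ℂ} (h : Mv f μ ν) (k : Mv f ν ξ) : Mv f μ ξ := by
  obtain ⟨x, σ, h1, rfl⟩ := h
  obtain ⟨y, τ, h2, rfl⟩ := k
  refine ⟨x * y, τ.trans σ, fun e => ?_, rfl⟩
  show f (σ (τ e)) = _
  rw [h1, h2]
  group

theorem Mv.symm {f : E →* G} {μ ν : E → ℂ} (h : Mv f μ ν) : Mv f ν μ := by
  obtain ⟨x, σ, h1, rfl⟩ := h
  refine ⟨x⁻¹, σ.symm, fun e => ?_, ?_⟩
  · have h2 := h1 (σ.symm e)
    rw [σ.apply_symm_apply] at h2
    rw [h2]
    group
  · funext e
    show μ e = μ (σ (σ.symm e))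
    rw [σ.apply_symm_apply]

theorem Mv.comp {f : E →* G} {H : Type*} [Group H] (φ : G →* H) {μ ν : E → ℂ} (h : Mv f μ ν) : Mv (φ.comp f) μ ν := by
  obtain ⟨x, σ, h1, rfl⟩ := h
  refine ⟨φ x, σ, fun e => ?_, rfl⟩
  show φ (f (σ e)) = φ x * φ (f e) * (φ x)⁻¹
  rw [h1, map_mul, map_mul, map_inv]

/-- invariance of the multiplicities -/
theorem Mv.inner {f : E →* G} [Fintype G] [Fintype E] {μ ν : E → ℂ} (h : Mv f μ ν) {χ : G → ℂ}
    (hχ : ∀ g h : G, χ (g * h * g⁻¹) = χ h) : classInner (χ ∘ f) ν = classInner (χ ∘ f) μ := by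
  obtain ⟨x, σ, h1, rfl⟩ := h
  rw [classInner_def, classInner_def]
  congr 1
  rw [← Equiv.sum_comp σ.toEquiv (fun e => (χ ∘ f) e * conj (μ e))]
  refine Finset.sum_congr rfl fun e _ => ?_
  show χ (f e) * conj (μ (σ e)) = χ (f (σ e)) * conj (μ (σ e))
  rw [h1, hχ]

end mv

section desc

/-- descent along a surjective homomorphism -/
theorem isCharacter_of_comp {G H : Type*} [Group G] [Finite G] [Group H] (φ : G →* H) (hφ : Function.Surjective φ)
    {W : H → ℂ} (h : IsCharacter G (W ∘ φ)) : IsCharacter H W := by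
  let e := QuotientGroup.quotientKerEquivOfSurjective φ hφ
  have h1 : IsCharacter (G ⧸ φ.ker) (W ∘ e) := by
    apply isCharacter_descend
    exact h
  have h2 := isCharacter_comp e.symm.toMonoidHom h1
  have h3 : (W ∘ e) ∘ e.symm.toMonoidHom = W := by
    funext x
    show W (e (e.symm x)) = W x
    rw [e.apply_symm_apply]
  rwa [h3] at h2

end desc

section main

variable {G : Type*} [Group G] [Fintype G] {E : Type*} [Group E] [Fintype E]

theorem exists_of_orbit (f : E →* G) {W : G → ℂ} (hW : IsCharacter G W)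
    (hker : ∀ χ : IrrCharacter G, (∀ e, (χ : G → ℂ) (f e) = (χ : G → ℂ) 1) → (χ : G → ℂ) = fun _ => 1)
    {A : Type*} [Fintype A] [Nonempty A]
    (lam : A → E → ℂ) (hlam : ∀ a, IsIrrCharacter E (lam a)) (hinj : Function.Injective lam)
    (hl1 : ∀ a, lam a ≠ fun _ => 1) (m : ℂ)
    (hWf : W ∘ f = m • (fun _ => (1 : ℂ)) + ∑ a, lam a) (htr : ∀ a b, Mv f (lam a) (lam b)) :
    ∃ (ψ : IrrCharacter G) (k : ℕ), (ψ : G → ℂ) ≠ (fun _ => 1) ∧ ∀ g, W g = k + (ψ : G → ℂ) g := by
  classical
  have : Finite (IrrCharacter G) := finite_irr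
  have := Fintype.ofFinite (IrrCharacter G)
  have : Finite (IrrCharacter E) := finite_irr
  have := Fintype.ofFinite (IrrCharacter E)
  have hone : IsIrrCharacter E (fun _ => (1 : ℂ)) := Cfsg.Agent.Blocks.Basic.isIrrCharacter_one
  obtain ⟨mm, hm⟩ := exists_nat_comb hW
  have hnat : ∀ (χ : IrrCharacter G) (a : A), ∃ n : ℕ, classInner ((χ : G → ℂ) ∘ f) (lam a) = n := fun χ a =>
    classInner_isNat (isCharacter_comp f (isIrr_isCharacter χ.2)) (isIrr_isCharacter (hlam a))
  choose n hn using hnat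
  have hWa : ∀ a, classInner (W ∘ f) (lam a) = 1 := by
    intro a
    rw [hWf, classInner_add_left, classInner_smul_left, classInner_irr_ne hone (hlam a) (hl1 a).symm, mul_zero, zero_add,
      classInner_sum_left, Finset.sum_eq_single a]
    · exact classInner_irr_self (hlam a)
    · intro b _ hb
      exact classInner_irr_ne (hlam b) (hlam a) (fun h => hb (hinj h))
    · intro h
      exact absurd (Finset.mem_univ _) h
  have hval : W = ∑ χ : IrrCharacter G, (mm χ : ℂ) • (χ : G → ℂ) := by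
    funext g
    rw [hm]
    simp [Finset.sum_apply]
  have hsum : ∀ η : E → ℂ, classInner (W ∘ f) η = ∑ χ : IrrCharacter G, (mm χ : ℂ) * classInner ((χ : G → ℂ) ∘ f) η := by
    intro η
    have h1 : W ∘ f = ∑ χ : IrrCharacter G, (mm χ : ℂ) • ((χ : G → ℂ) ∘ f) := by
      funext e
      rw [Function.comp_apply, hval]
      simp [Finset.sum_apply]
    rw [h1, classInner_sum_left]
    exact Finset.sum_congr rfl fun χ _ => classInner_smul_left _ _ _
  have hone' : ∀ a, ∑ χ : IrrCharacter G, mm χ * n χ a = 1 := by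
    intro a
    have h1 := hsum (lam a)
    rw [hWa] at h1
    have h2 : ((∑ χ : IrrCharacter G, mm χ * n χ a : ℕ) : ℂ) = ((1 : ℕ) : ℂ) := by
      push_cast
      rw [h1]
      exact Finset.sum_congr rfl fun χ _ => by rw [hn]
    exact_mod_cast h2
  have hinv : ∀ (χ : IrrCharacter G) (a b : A), n χ b = n χ a := by
    intro χ a b
    have h1 := (htr a b).inner (χ := (χ : G → ℂ)) (fun g h => isIrr_isClassFunction χ.2 h g)
    rw [hn, hn] at h1
    exact_mod_cast h1
  obtain ⟨a0⟩ : Nonempty A := inferInstance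
  -- a constituent with multiplicity zero for all `a` is trivial
  have hzero : ∀ χ : IrrCharacter G, n χ a0 = 0 → mm χ ≠ 0 → (χ : G → ℂ) = fun _ => 1 := by
    intro χ h0 hmχ
    apply hker
    have hres : IsCharacter E ((χ : G → ℂ) ∘ f) := isCharacter_comp f (isIrr_isCharacter χ.2)
    obtain ⟨c, hc⟩ := exists_nat_comb hres
    have hcv : (χ : G → ℂ) ∘ f = ∑ η : IrrCharacter E, (c η : ℂ) • (η : E → ℂ) := by
      funext e
      rw [hc]
      simp [Finset.sum_apply]
    have hnat2 : ∀ (χ : IrrCharacter G) (η : IrrCharacter E),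
        ∃ k : ℕ, classInner ((χ : G → ℂ) ∘ f) (η : E → ℂ) = k := fun χ η =>
      classInner_isNat (isCharacter_comp f (isIrr_isCharacter χ.2)) (isIrr_isCharacter η.2)
    choose k hk using hnat2
    have hck : ∀ η : IrrCharacter E, c η = k χ η := by
      intro η
      have h2 := hk χ η
      rw [hcv, classInner_sum_left, Finset.sum_eq_single η] at h2
      · rw [classInner_smul_left, classInner_irr_self η.2, mul_one] at h2
        exact_mod_cast h2
      · intro θ _ hθ
        rw [classInner_smul_left, classInner_irr_ne θ.2 η.2 (fun h3 => hθ (Subtype.ext h3)), mul_zero]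
      · intro h3
        exact absurd (Finset.mem_univ _) h3
    have hc0 : ∀ η : IrrCharacter E, (η : E → ℂ) ≠ (fun _ => 1) → c η = 0 := by
      intro η hη1
      by_cases hη2 : ∃ a, lam a = η
      · obtain ⟨a, ha⟩ := hη2
        have h1 : (k χ η : ℂ) = n χ a := by rw [← hk, ← ha, hn]
        rw [hinv χ a0 a, h0] at h1
        rw [hck]
        exact_mod_cast h1
      · push Not at hη2
        have h1 : classInner (W ∘ f) (η : E → ℂ) = 0 := by
          rw [hWf, classInner_add_left, classInner_smul_left, classInner_irr_ne hone η.2 hη1.symm, mul_zero, zero_add,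
            classInner_sum_left, Finset.sum_eq_zero]
          intro a _
          exact classInner_irr_ne (hlam a) η.2 (hη2 a)
        rw [hsum] at h1
        have h2 : ∑ χ : IrrCharacter G, mm χ * k χ η = 0 := by
          have h3 : ((∑ χ : IrrCharacter G, mm χ * k χ η : ℕ) : ℂ) = 0 := by
            push_cast
            rw [← h1]
            exact Finset.sum_congr rfl fun χ _ => by rw [hk]
          exact_mod_cast h3
        have h3 := (Finset.sum_eq_zero_iff.1 h2) χ (Finset.mem_univ χ)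
        rcases mul_eq_zero.1 h3 with h4 | h4
        · exact absurd h4 hmχ
        · rw [hck, h4]
    intro e
    have hconst : ∀ e, ((χ : G → ℂ) ∘ f) e = ((χ : G → ℂ) ∘ f) 1 := by
      intro e
      rw [hcv, Finset.sum_apply, Finset.sum_apply]
      refine Finset.sum_congr rfl fun η _ => ?_
      by_cases hη : (η : E → ℂ) = fun _ => 1
      · rw [Pi.smul_apply, Pi.smul_apply, hη]
      · rw [hc0 η hη, Pi.smul_apply, Pi.smul_apply]
        simp
    have h5 := hconst e
    rw [Function.comp_apply, Function.comp_apply, map_one] at h5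
    exact h5
  -- the unique constituent
  obtain ⟨ψ, -, hψ⟩ : ∃ ψ ∈ (Finset.univ : Finset (IrrCharacter G)), mm ψ * n ψ a0 ≠ 0 := by
    apply Finset.exists_ne_zero_of_sum_ne_zero
    rw [hone']
    norm_num
  have hψ1 : mm ψ * n ψ a0 + ∑ χ ∈ Finset.univ.erase ψ, mm χ * n χ a0 = 1 := by
    rw [Finset.add_sum_erase Finset.univ (fun χ => mm χ * n χ a0) (Finset.mem_univ ψ)]
    exact hone' a0
  have hψ2 : mm ψ * n ψ a0 = 1 := by omega
  have hψ3 : ∑ χ ∈ Finset.univ.erase ψ, mm χ * n χ a0 = 0 := by omega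
  have hmψ : mm ψ = 1 := Nat.eq_one_of_mul_eq_one_right hψ2
  have hnψ : n ψ a0 = 1 := Nat.eq_one_of_mul_eq_one_left hψ2
  have hψne : (ψ : G → ℂ) ≠ fun _ => 1 := by
    intro h
    have h1 := hn ψ a0
    have h2 : (ψ : G → ℂ) ∘ f = fun _ => 1 := by
      rw [h]
      rfl
    rw [h2, classInner_irr_ne hone (hlam a0) (hl1 a0).symm, hnψ] at h1
    simp at h1
  let o : IrrCharacter G := ⟨fun _ => (1 : ℂ), Cfsg.Agent.Blocks.Basic.isIrrCharacter_one⟩
  have hrest : ∀ χ : IrrCharacter G, χ ≠ ψ → χ ≠ o → mm χ = 0 := by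
    intro χ hχ hχo
    by_contra hmχ
    have h1 := (Finset.sum_eq_zero_iff.1 hψ3) χ (Finset.mem_erase.2 ⟨hχ, Finset.mem_univ χ⟩)
    rcases mul_eq_zero.1 h1 with h2 | h2
    · exact hmχ h2
    · exact hχo (Subtype.ext (hzero χ h2 hmχ))
  have hψo : ψ ≠ o := fun h => hψne (congrArg Subtype.val h)
  refine ⟨ψ, mm o, hψne, fun g => ?_⟩
  rw [hval, Finset.sum_apply, ← Finset.sum_subset (Finset.subset_univ {ψ, o}), Finset.sum_pair hψo]
  · rw [Pi.smul_apply, Pi.smul_apply, hmψ, Nat.cast_one, one_smul, smul_eq_mul]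
    show _ + (mm o : ℂ) * 1 = _
    ring
  · intro χ _ hχ
    rw [Finset.mem_insert, Finset.mem_singleton, not_or] at hχ
    rw [Pi.smul_apply, hrest χ hχ.1 hχ.2, Nat.cast_zero, zero_smul]

end main

end Cfsg.Agent.H299.K4.Orb
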