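import Cfsg.Agent.H299.K4.SuzC
import Cfsg.Agent.H843.IMC.LamCo1
import Cfsg.Agent.LThreeCo1Six.Data
import Cfsg.Agent.LThreeBX.NoSeven
import Cfsg.Agent.LThreeCo1Suz.Main

/-!
# The character of degree 143 of `Suz` (helper299, for S4947 and S4547)

`e 1` has the eigenvalues `ζ`, `ζ²` with multiplicity 12 on the Leech space; `χ` is the character of `C = C(e 1)` on
the `ζ`-eigenspace; it is irreducible and `χ χ̄ = 1 + ψ`, `ψ` an irreducible character of degree 143 of
`C / ⟨-1, e 1⟩ ≅ Suz` with rational values (`exists_143`).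
-/

set_option autoImplicit false
set_option maxRecDepth 20000

namespace Cfsg.Agent.H299.K4.Suz143

open Cfsg Cfsg.Agent.Characters.Core Cfsg.Agent.H843.IMC
open Cfsg.Agent.LThreeCo1.Ev Cfsg.Agent.LThreeCo1.AGrp Cfsg.Agent.LThreeCo1.Rel Cfsg.Agent.LThreeCo1.Class
open Cfsg.Agent.H299.K4.Orb Cfsg.Agent.H299.K4.Wt Cfsg.Agent.H299.K4.SuzC
open Cfsg.Agent.H419.LeechIrr (repC trace_repC matC)
open Cfsg.Agent.Co2Type.Mono (tr8)
open Cfsg.Agent.CoOneType.ClosingFacts (mk mk_eq mk_mul)
open Cfsg.Agent.SporadicStructure.Co0Base Cfsg.Agent.CoOneType.SignFacts Cfsg.Agent.SporadicA.Co1Simple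
open Cfsg.Agent.SporadicA.Co0Mono
open Cfsg.Spor (Co1)
open scoped ComplexConjugate

/-- the complex Leech space -/
abbrev L : Type := GolayPt → ℂ

/-- the representation of `C` -/
noncomputable def ρ : Representation ℂ C L := repC.comp C.subtype

theorem e1_cube : e 1 * (e 1 * e 1) = 1 := by
  have h := cube (i := 0) (by norm_num)
  rw [pow_succ, pow_two, mul_assoc] at h
  exact h

/-- the operator of `e 1` -/
noncomputable def r : Module.End ℂ L := repC (e 1)

theorem r_cube : r * (r * r) = 1 := by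
  unfold r
  rw [← map_mul, ← map_mul, e1_cube, map_one]

/-- the projection -/
noncomputable def P : Module.End ℂ L := (1 / 3 : ℂ) • (1 + (ζ ^ 2) • r + ζ • (r * r))

theorem r_P : r * P = ζ • P := by
  have h3 := r_cube
  have e0 : r * P = (1 / 3 : ℂ) • (r + (ζ ^ 2) • (r * r) + ζ • (1 : Module.End ℂ L)) := by
    unfold P
    rw [mul_smul_comm, mul_add, mul_add, mul_one, mul_smul_comm, mul_smul_comm, h3]
  have h5 : (ζ ^ 3 : ℂ) • r = r := by rw [ζ_pow, one_smul]
  have h6 : (1 / 3 : ℂ) • (r + (ζ ^ 2) • (r * r) + ζ • (1 : Module.End ℂ L)) =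
      (1 / 3 : ℂ) • ((ζ ^ 3 : ℂ) • r + (ζ ^ 2) • (r * r) + ζ • (1 : Module.End ℂ L)) := by rw [h5]
  rw [e0, h6]
  unfold P
  module

theorem rr_P : r * r * P = (ζ ^ 2) • P := by
  rw [mul_assoc, r_P, mul_smul_comm, r_P, smul_smul, ← pow_two]

theorem P_P : P * P = P := by
  have h : P * P = (1 / 3 : ℂ) • (P + (ζ ^ 2) • (r * P) + ζ • (r * r * P)) := by
    conv_lhs => rw [show P * P = ((1 / 3 : ℂ) • (1 + (ζ ^ 2) • r + ζ • (r * r))) * P from rfl]
    rw [smul_mul_assoc, add_mul, add_mul, one_mul, smul_mul_assoc, smul_mul_assoc]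
  have hz := ζ_pow
  have e1 : ζ ^ 2 * ζ = 1 := by rw [← hz]; ring
  have e2 : ζ * ζ ^ 2 = 1 := by rw [← hz]; ring
  rw [h, r_P, rr_P, smul_smul, smul_smul, e1, e2, one_smul]
  have h2 : P + P + P = (3 : ℂ) • P := by module
  rw [h2, smul_smul]
  norm_num

theorem r_comm (g : C) : r * ρ g = ρ g * r := by
  show repC (e 1) * repC (g : Co0) = repC (g : Co0) * repC (e 1)
  rw [← map_mul, ← map_mul, mem_C.1 g.2]

theorem P_comm (g : C) : P * ρ g = ρ g * P := by
  have h := r_comm g
  have h2 : r * r * ρ g = ρ g * (r * r) := by rw [mul_assoc, h, ← mul_assoc, h, mul_assoc]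
  unfold P
  rw [smul_mul_assoc, mul_smul_comm, add_mul, add_mul, mul_add, mul_add, one_mul, mul_one, smul_mul_assoc,
    smul_mul_assoc, mul_smul_comm, mul_smul_comm, h, h2]

/-- the character of degree 12 -/
noncomputable def χ : C → ℂ := fun g => LinearMap.trace ℂ L (ρ g * P)

theorem isChar : IsCharacter C χ := isCharacter_trace_proj ρ P P_P P_comm

/-- `e 1` as an element of `C` -/
noncomputable def s1 : C := ⟨e 1, mem_C.2 rfl⟩

theorem χ_s1 (g : C) : χ (g * s1) = ζ * χ g := by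
  unfold χ
  have h : ρ (g * s1) * P = ζ • (ρ g * P) := by
    have h1 : ρ (g * s1) = ρ g * r := by
      show repC ((g : Co0) * e 1) = repC (g : Co0) * repC (e 1)
      rw [map_mul]
    rw [h1, mul_assoc, r_P, mul_smul_comm]
  rw [h, map_smul, smul_eq_mul]

/-- the trace -/
noncomputable def τ (g : Co0) : ℚ := (tr8 g : ℚ) / 8

theorem trace_eq (g : Co0) : LinearMap.trace ℂ L (repC g) = (τ g : ℂ) := by
  rw [trace_repC, τ]
  push_cast
  rfl

theorem χ_eq (g : C) : χ g = (1 / 3 : ℂ) * ((τ g : ℂ) + ζ ^ 2 * (τ (g * e 1) : ℂ) + ζ * (τ (g * (e 1 * e 1)) : ℂ)) := by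
  unfold χ
  have h : ρ g * P = (1 / 3 : ℂ) • (repC (g : Co0) + (ζ ^ 2) • repC ((g : Co0) * e 1) +
      ζ • repC ((g : Co0) * (e 1 * e 1))) := by
    unfold P
    rw [mul_smul_comm, mul_add, mul_add, mul_one, mul_smul_comm, mul_smul_comm]
    have h1 : ρ g * r = repC ((g : Co0) * e 1) := by
      show repC (g : Co0) * repC (e 1) = _
      rw [map_mul]
    have h2 : ρ g * (r * r) = repC ((g : Co0) * (e 1 * e 1)) := by
      show repC (g : Co0) * (repC (e 1) * repC (e 1)) = _
      rw [map_mul, map_mul]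
    rw [h1, h2]
    rfl
  rw [h, map_smul, map_add, map_add, map_smul, map_smul, trace_eq, trace_eq, trace_eq]
  simp only [smul_eq_mul]

theorem tr_one : tr8 (1 : Co0) = 192 := Cfsg.Agent.SigZeroCo2.Lin.tr8_one

theorem k1 : Cfsg.Agent.LThreeCo1Six.Data.trW M [1] = -96 := by decide +kernel

theorem k11 : Cfsg.Agent.LThreeCo1Six.Data.trW M [1, 1] = -96 := by decide +kernel

theorem tr_e1 : tr8 (e 1) = -96 := by
  have h := Cfsg.Agent.LThreeCo1Six.Data.tr8_word Cfsg.Agent.LThreeCo1.Rel.rep [1]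
  rw [k1] at h
  simpa using h

theorem tr_e11 : tr8 (e 1 * e 1) = -96 := by
  have h := Cfsg.Agent.LThreeCo1Six.Data.tr8_word Cfsg.Agent.LThreeCo1.Rel.rep [1, 1]
  rw [k11] at h
  simpa using h

theorem χ_one : χ 1 = 12 := by
  have h : χ 1 = (1 / 3 : ℂ) * ((τ 1 : ℂ) + ζ ^ 2 * (τ (e 1) : ℂ) + ζ * (τ (e 1 * e 1) : ℂ)) := by
    rw [χ_eq]
    rw [OneMemClass.coe_one, one_mul, one_mul]
  rw [h, τ, τ, τ, tr_one, tr_e1, tr_e11]
  push_cast
  linear_combination (-4) * ζ_sum

/-! ### The restriction to `3^6` -/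

theorem f_single : f (Multiplicative.ofAdd (Pi.single 0 1)) = s1 := Subtype.ext (by
  rw [f_val]
  exact ph_single)

theorem χ_f : χ ∘ f = ∑ i : Fin 12, lam (W i) := by
  classical
  have := Fintype.ofFinite C
  obtain ⟨m, hm1, hm2⟩ := exists_mult (isCharacter_comp f isChar)
  have hcl : ∀ g h : C, χ (g * h * g⁻¹) = χ h := fun g h => isCharacter_isClassFunction isChar h g
  have hinv : ∀ {w w' : V}, Mv f (lam w) (lam w') → m w' = m w := by
    intro w w' h
    have h1 := h.inner hcl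
    rw [hm1, hm1] at h1
    exact_mod_cast h1
  have hs : ∑ w, m w = 12 := by
    have h1 := congrFun hm2 1
    rw [Function.comp_apply, map_one, χ_one, Finset.sum_apply] at h1
    have h2 : ∀ w : V, ((m w : ℂ) • lam w) 1 = m w := by
      intro w
      rw [Pi.smul_apply, smul_eq_mul]
      have : lam w 1 = 1 := (lamH w).map_one
      rw [this, mul_one]
    rw [Finset.sum_congr rfl fun w _ => h2 w] at h1
    exact_mod_cast h1.symm
  have h0 : ∀ w, m w ≠ 0 → w 0 = 1 := by
    intro w hw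
    let u : E := Multiplicative.ofAdd (Pi.single 0 1)
    have e1 : (fun v => (χ ∘ f) (v * u)) = ζ • (χ ∘ f) := by
      funext v
      show χ (f (v * u)) = ζ * χ (f v)
      rw [map_mul, f_single, χ_s1]
    have e2 : (fun v => (χ ∘ f) (v * u)) = ∑ w, (m w * zp (w 0) : ℂ) • lam w := by
      funext v
      rw [hm2, Finset.sum_apply, Finset.sum_apply]
      refine Finset.sum_congr rfl fun w _ => ?_
      rw [Pi.smul_apply, Pi.smul_apply, smul_eq_mul, smul_eq_mul, lam_mul, lam_single]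
      ring
    have e3 : classInner (∑ w, (m w * zp (w 0) : ℂ) • lam w) (lam w) = m w * zp (w 0) := by
      rw [classInner_sum_left, Finset.sum_eq_single w]
      · rw [classInner_smul_left, classInner_irr_self (isIrr_lam w), mul_one]
      · intro w' _ hw'
        rw [classInner_smul_left, classInner_irr_ne (isIrr_lam w') (isIrr_lam w) (fun h => hw' (lam_injective h)),
          mul_zero]
      · intro h
        exact absurd (Finset.mem_univ w) h
    rw [← e2, e1, classInner_smul_left, hm1] at e3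
    apply zp_injective
    rw [zp_one]
    have hne : (m w : ℂ) ≠ 0 := Nat.cast_ne_zero.2 hw
    exact (mul_left_cancel₀ hne (by rw [← e3]; ring)).symm
  have hm := mult m hs h0 (fun w => hinv (mv7 w)) (fun w => hinv (mv11 w))
  rw [hm2, ← Finset.sum_subset (Finset.subset_univ (Finset.univ.image W)),
    Finset.sum_image (fun i _ j _ h => W_injective h)]
  · refine Finset.sum_congr rfl fun i _ => ?_
    rw [hm, if_pos ⟨i, rfl⟩, Nat.cast_one, one_smul]
  · intro w _ hw
    rw [hm, if_neg, Nat.cast_zero, zero_smul]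
    rintro ⟨i, rfl⟩
    exact hw (Finset.mem_image_of_mem W (Finset.mem_univ i))

theorem isIrr_χ : IsIrrCharacter C χ := by
  classical
  have := Fintype.ofFinite C
  exact irr_of_orbit f isChar (fun i => lam (W i)) (fun i => isIrr_lam _) (fun i j h => W_injective (lam_injective h))
    χ_f (fun i j => mv_all i j)

/-! ### The square -/

/-- the character `χ χ̄` -/
noncomputable def Θ : C → ℂ := fun g => χ g * conj (χ g)

theorem isCharacter_Θ : IsCharacter C Θ := isCharacter_mul isChar (isCharacter_conj isChar)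

theorem Θ_one : Θ 1 = 144 := by
  unfold Θ
  rw [χ_one, Complex.conj_ofNat]
  norm_num

theorem Θ_rat (g : C) : ∃ q : ℚ, Θ g = q := by
  refine ⟨(τ g ^ 2 + τ (g * e 1) ^ 2 + τ (g * (e 1 * e 1)) ^ 2 - τ g * τ (g * e 1) - τ g * τ (g * (e 1 * e 1)) -
    τ (g * e 1) * τ (g * (e 1 * e 1))) / 9, ?_⟩
  unfold Θ
  have hc : conj (ζ ^ 2) = ζ := by
    rw [map_pow, ζ_conj, ← pow_mul]
    have := ζ_pow
    linear_combination ζ * this
  have hr : ∀ q : ℚ, conj (q : ℂ) = q := fun q => by
    rw [← Complex.ofReal_ratCast, Complex.conj_ofReal]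
  rw [χ_eq, map_mul, map_add, map_add, map_mul, map_mul, hc, ζ_conj, hr, hr, hr, map_div₀, map_one, Complex.conj_ofNat]
  push_cast
  have h3 := ζ_pow
  have hs := ζ_sum
  generalize (τ g : ℂ) = x
  generalize (τ (g * e 1) : ℂ) = y
  generalize (τ (g * (e 1 * e 1)) : ℂ) = z
  linear_combination ((y ^ 2 + z ^ 2 + ζ * y * z) / 9) * h3 + ((x * y + x * z + y * z) / 9) * hs

theorem Θ_s1 (g : C) : Θ (g * s1) = Θ g := by
  unfold Θ
  rw [χ_s1, map_mul, ζ_conj]
  have h3 := ζ_pow
  linear_combination (χ g * conj (χ g)) * h3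

/-- a pair of different weights -/
abbrev PW : Type := {p : Fin 12 × Fin 12 // p.1 ≠ p.2}

theorem Θ_f : Θ ∘ f = (12 : ℂ) • (fun _ => (1 : ℂ)) + ∑ p : PW, lam (W p.1.1 - W p.1.2) := by
  classical
  funext v
  have h1 : χ (f v) = ∑ i : Fin 12, lam (W i) v := by
    have := congrFun χ_f v
    rw [Finset.sum_apply] at this
    exact this
  have h2 : ∀ i j : Fin 12, lam (W i) v * conj (lam (W j) v) = lam (W i - W j) v := by
    intro i j
    rw [lam_conj, ← lam_add, sub_eq_add_neg]
  have h3 : Θ (f v) = ∑ p : Fin 12 × Fin 12, lam (W p.1 - W p.2) v := by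
    unfold Θ
    rw [h1, map_sum, Finset.sum_mul_sum, Fintype.sum_prod_type]
    exact Finset.sum_congr rfl fun i _ => Finset.sum_congr rfl fun j _ => h2 i j
  show Θ (f v) = _
  rw [h3, Pi.add_apply, Pi.smul_apply, Finset.sum_apply,
    ← Finset.sum_filter_add_sum_filter_not Finset.univ (fun p : Fin 12 × Fin 12 => p.1 = p.2)]
  congr 1
  · have h4 : ∀ p ∈ Finset.univ.filter (fun p : Fin 12 × Fin 12 => p.1 = p.2), lam (W p.1 - W p.2) v = 1 := by
      intro p hp
      rw [(Finset.mem_filter.1 hp).2, sub_self, lam_zero]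
    rw [Finset.sum_congr rfl h4, Finset.sum_const]
    have h5 : (Finset.univ.filter (fun p : Fin 12 × Fin 12 => p.1 = p.2)).card = 12 := by decide +kernel
    rw [h5]
    simp

end Cfsg.Agent.H299.K4.Suz143
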