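import Cfsg.Agent.H299.K4.Wt
import Cfsg.Agent.LThreeCo1.Class

/-!
# The weights of `3^6` in the 12-dimensional representation of `6.Suz` (helper299, for S4947 and S4547)

`C = C(e 1)` in `Co0`, `f : 3^6 → C`, `W i` the twelve weights, permuted doubly transitively by `e 7`, `e 11`.
-/

set_option autoImplicit false
set_option maxRecDepth 20000

namespace Cfsg.Agent.H299.K4.SuzC

open Cfsg Cfsg.Agent.Characters.Core Cfsg.Agent.H843.IMC
open Cfsg.Agent.LThreeCo1.Ev Cfsg.Agent.LThreeCo1.AGrp Cfsg.Agent.LThreeCo1.Rel Cfsg.Agent.LThreeCo1.Class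
open Cfsg.Agent.SporadicStructure.Co0Matrix Cfsg.Agent.CoOneType.CoEval
open Cfsg.Agent.H299.K4.Orb Cfsg.Agent.H299.K4.Wt

/-- the centralizer of `e 1` -/
abbrev C : Subgroup Co0 := Subgroup.centralizer {e 1}

theorem mem_C {g : Co0} : g ∈ C ↔ g * e 1 = e 1 * g := Subgroup.mem_centralizer_singleton_iff

/-! ### explicit data -/

/-- the columns of `e 7` -/
def c7 : Fin 6 → V := ![![1, 0, 0, 0, 0, 0], ![0, 0, 1, 0, 0, 0], ![0, 0, 0, 1, 0, 0], ![0, 1, 0, 0, 0, 0],
  ![0, 2, 2, 2, 1, 1], ![0, 1, 1, 1, 0, 1]]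

/-- the columns of `e 11` -/
def c11 : Fin 6 → V := ![![1, 0, 0, 0, 0, 0], ![0, 0, 0, 2, 0, 0], ![2, 1, 0, 2, 2, 1], ![0, 0, 2, 0, 2, 1],
  ![0, 0, 2, 1, 2, 0], ![0, 0, 0, 0, 1, 0]]

theorem c7_eq : ∀ j : Fin 6, ∀ i : Fin 6, vc (c 7 j.val) i = c7 j i := by decide +kernel

theorem c11_eq : ∀ j : Fin 6, ∀ i : Fin 6, vc (c 11 j.val) i = c11 j i := by decide +kernel

/-- the weights -/
def W : Fin 12 → V := ![![1, 1, 1, 1, 0, 0], ![1, 2, 2, 2, 0, 0], ![1, 1, 2, 1, 0, 0], ![1, 2, 1, 1, 2, 1],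
  ![1, 2, 2, 1, 2, 0], ![1, 1, 1, 2, 2, 2], ![1, 2, 2, 1, 1, 2], ![1, 2, 1, 2, 0, 2], ![1, 2, 1, 2, 1, 1],
  ![1, 1, 2, 2, 0, 1], ![1, 1, 1, 1, 1, 0], ![1, 1, 2, 2, 0, 0]]

/-- the permutations -/
def p7 : Fin 12 → Fin 12 := ![0, 1, 3, 5, 7, 2, 8, 9, 11, 4, 10, 6]
def p11 : Fin 12 → Fin 12 := ![1, 2, 4, 6, 7, 5, 8, 10, 9, 11, 3, 0]

theorem W7 : ∀ i : Fin 12, ∀ j : Fin 6, trp c7 (W i) j = W (p7 i) j := by decide +kernel

theorem W11 : ∀ i : Fin 12, ∀ j : Fin 6, trp c11 (W i) j = W (p11 i) j := by decide +kernel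

theorem W_zero : ∀ i : Fin 12, W i 0 = 1 := by decide +kernel

theorem W_inj : ∀ i j : Fin 12, (∀ k : Fin 6, W i k = W j k) → i = j := by decide +kernel

/-- code of a difference -/
def dc (i j : Fin 12) : ℕ := (List.ofFn fun k : Fin 6 => (W i k - W j k).val).foldl (fun s x => 3 * s + x) 0

theorem dc_nodup : (((List.finRange 12 ×ˢ List.finRange 12).filter fun p => p.1 ≠ p.2).map fun p =>
    dc p.1 p.2).Nodup := by decide +kernel

theorem trans1 : ∀ i : Fin 12, ∃ k < 11, ∃ l < 11, p11^[l] (p7 (p11^[k] i)) = 0 := by decide +kernel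

theorem trans2 : ∀ i j : Fin 12, i ≠ j → ∃ k < 11, ∃ l < 11, ∃ m < 11,
    p7 (p11^[m] (p7 (p11^[k] i))) = 5 ∧ p11^[l] (p7 (p11^[m] (p7 (p11^[k] j)))) = 0 := by decide +kernel

/-- `e 11` fixes only one weight -/
theorem fix11 : ∀ w : V, w 0 = 1 → (∀ j, trp c11 w j = w j) → ∀ j, w j = W 5 j := by decide +kernel

theorem order11 : ∀ i : Fin 6, ∀ j : Fin 6, (trp c11)^[11] (Pi.single i 1) j = (Pi.single i 1 : V) j := by
  decide +kernel

theorem diff_inj {p q : Fin 12 × Fin 12} (hp : p.1 ≠ p.2) (hq : q.1 ≠ q.2) (h : W p.1 - W p.2 = W q.1 - W q.2) :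
    p = q := by
  have h1 : dc p.1 p.2 = dc q.1 q.2 := by
    unfold dc
    congr 1
    apply congrArg
    funext k
    exact congrArg ZMod.val (congrFun h k)
  refine List.inj_on_of_nodup_map dc_nodup ?_ ?_ h1
  · rw [List.mem_filter]
    exact ⟨List.mem_product.2 ⟨List.mem_finRange _, List.mem_finRange _⟩, by simpa using hp⟩
  · rw [List.mem_filter]
    exact ⟨List.mem_product.2 ⟨List.mem_finRange _, List.mem_finRange _⟩, by simpa using hq⟩

theorem W_injective : Function.Injective W := fun i j h => W_inj i j fun k => congrFun h k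

theorem trp_W7 (i : Fin 12) : trp c7 (W i) = W (p7 i) := funext (W7 i)

theorem trp_W11 (i : Fin 12) : trp c11 (W i) = W (p11 i) := funext (W11 i)

theorem trp_sub (c : Fin 6 → V) (w w' : V) : trp c (w - w') = trp c w - trp c w' := by
  funext j
  have h := pr_add_left (w - w') w' (c j)
  rw [sub_add_cancel] at h
  show pr (w - w') (c j) = pr w (c j) - pr w' (c j)
  rw [h, add_sub_cancel_right]

/-! ### the group `A` -/

theorem ph_single : Ph a (Pi.single 0 1) = e 1 := by
  unfold Ph
  simp only [Pi.single_eq_same, ZMod.val_one]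
  have h : ∀ i : Fin 6, i ≠ 0 → ((Pi.single 0 1 : V) i).val = 0 := by
    intro i hi
    rw [Pi.single_eq_of_ne hi, ZMod.val_zero]
  rw [h 1 (by decide), h 2 (by decide), h 3 (by decide), h 4 (by decide), h 5 (by decide)]
  simp [a]

/-- the embedding of `3^6` -/
noncomputable def f : E →* C := (hom hA).codRestrict C (fun v => by
  rw [mem_C]
  show Ph a (Multiplicative.toAdd v) * e 1 = e 1 * Ph a (Multiplicative.toAdd v)
  rw [← ph_single]
  exact hA.ph_comm _ _)

theorem f_val (v : V) : ((f (Multiplicative.ofAdd v) : C) : Co0) = Ph a v := rfl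

theorem f_injective : Function.Injective f := by
  intro u v h
  have h1 : Ph a (Multiplicative.toAdd u) = Ph a (Multiplicative.toAdd v) := congrArg Subtype.val h
  exact ph_inj h1

theorem e7_mem : e 7 ∈ C := by
  rw [mem_C]
  have h := cj_spec k_7 (Pi.single 0 1)
  have h1 : lin (fun j => vc (c 7 j.val)) (Pi.single 0 1) = Pi.single 0 1 := by
    funext i
    revert i
    decide +kernel
  rw [h1, ph_single, mul_inv_eq_iff_eq_mul] at h
  exact h

theorem e11_mem : e 11 ∈ C := by
  rw [mem_C]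
  have h := cj_spec k_11 (Pi.single 0 1)
  have h1 : lin (fun j => vc (c 11 j.val)) (Pi.single 0 1) = Pi.single 0 1 := by
    funext i
    revert i
    decide +kernel
  rw [h1, ph_single, mul_inv_eq_iff_eq_mul] at h
  exact h

theorem mv_step (g : C) (cc : Fin 6 → V)
    (h : ∀ v, f (Multiplicative.ofAdd (lin cc v)) = g * f (Multiplicative.ofAdd v) * g⁻¹) (w : V) :
    Mv f (lam w) (lam (trp cc w)) := by
  have hk : ∀ u : E, f (Multiplicative.ofAdd (lin cc (Multiplicative.toAdd u))) = g * f u * g⁻¹ :=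
    fun u => h (Multiplicative.toAdd u)
  let σ0 : E →* E :=
    { toFun := fun v => Multiplicative.ofAdd (lin cc (Multiplicative.toAdd v))
      map_one' := by
        apply f_injective
        rw [hk, map_one, mul_one, mul_inv_cancel]
      map_mul' := fun u v => by
        apply f_injective
        rw [hk, map_mul, map_mul, hk, hk]
        group }
  have hinj : Function.Injective σ0 := by
    intro u v huv
    have h1 := congrArg f huv
    have h2 : ∀ u : E, f (σ0 u) = g * f u * g⁻¹ := fun u => h (Multiplicative.toAdd u)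
    rw [h2, h2] at h1
    exact f_injective (mul_left_cancel (mul_right_cancel h1))
  let σ : E ≃* E := MulEquiv.ofBijective σ0 (Finite.injective_iff_bijective.1 hinj)
  refine ⟨g, σ, fun v => h (Multiplicative.toAdd v), ?_⟩
  funext v
  exact (lam_lin cc w (Multiplicative.toAdd v)).symm

theorem mv7 (w : V) : Mv f (lam w) (lam (trp c7 w)) := by
  refine mv_step ⟨e 7, e7_mem⟩ c7 (fun v => Subtype.ext ?_) w
  rw [f_val]
  show _ = e 7 * Ph a v * (e 7)⁻¹
  rw [cj_spec k_7]
  congr 2
  funext j i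
  exact (c7_eq j i).symm

theorem mv11 (w : V) : Mv f (lam w) (lam (trp c11 w)) := by
  refine mv_step ⟨e 11, e11_mem⟩ c11 (fun v => Subtype.ext ?_) w
  rw [f_val]
  show _ = e 11 * Ph a v * (e 11)⁻¹
  rw [cj_spec k_11]
  congr 2
  funext j i
  exact (c11_eq j i).symm

theorem mvW7 (i : Fin 12) : Mv f (lam (W i)) (lam (W (p7 i))) := trp_W7 i ▸ mv7 (W i)

theorem mvW11 (i : Fin 12) : Mv f (lam (W i)) (lam (W (p11 i))) := trp_W11 i ▸ mv11 (W i)

theorem mvW11k (k : ℕ) (i : Fin 12) : Mv f (lam (W i)) (lam (W (p11^[k] i))) := by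
  induction k generalizing i with
  | zero => exact Mv.refl _ _
  | succ k ih =>
    rw [Function.iterate_succ_apply]
    exact (mvW11 i).trans (ih _)

theorem mv_zero (i : Fin 12) : Mv f (lam (W i)) (lam (W 0)) := by
  obtain ⟨k, -, l, -, h⟩ := trans1 i
  have h1 := ((mvW11k k i).trans (mvW7 _)).trans (mvW11k l _)
  rwa [h] at h1

theorem mv_all (i j : Fin 12) : Mv f (lam (W i)) (lam (W j)) := (mv_zero i).trans (mv_zero j).symm

theorem mvD7 (i j : Fin 12) : Mv f (lam (W i - W j)) (lam (W (p7 i) - W (p7 j))) := by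
  have h := mv7 (W i - W j)
  rwa [trp_sub, trp_W7, trp_W7] at h

theorem mvD11 (i j : Fin 12) : Mv f (lam (W i - W j)) (lam (W (p11 i) - W (p11 j))) := by
  have h := mv11 (W i - W j)
  rwa [trp_sub, trp_W11, trp_W11] at h

theorem mvD11k (k : ℕ) (i j : Fin 12) : Mv f (lam (W i - W j)) (lam (W (p11^[k] i) - W (p11^[k] j))) := by
  induction k generalizing i j with
  | zero => exact Mv.refl _ _
  | succ k ih =>
    rw [Function.iterate_succ_apply, Function.iterate_succ_apply]
    exact (mvD11 i j).trans (ih _ _)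

theorem p11_five (k : ℕ) : p11^[k] 5 = 5 := Function.iterate_fixed (by decide +kernel) k

theorem mvD_zero {i j : Fin 12} (hij : i ≠ j) : Mv f (lam (W i - W j)) (lam (W 5 - W 0)) := by
  obtain ⟨k, -, l, -, m, -, h5, h0⟩ := trans2 i j hij
  have h1 := ((((mvD11k k i j).trans (mvD7 _ _)).trans (mvD11k m _ _)).trans (mvD7 _ _)).trans (mvD11k l _ _)
  rwa [h5, h0, p11_five] at h1

theorem mvD_all {i j k l : Fin 12} (hij : i ≠ j) (hkl : k ≠ l) :
    Mv f (lam (W i - W j)) (lam (W k - W l)) := (mvD_zero hij).trans (mvD_zero hkl).symm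

/-! ### the multiplicities -/

theorem trp_iter_add (n : ℕ) (u v : V) : (trp c11)^[n] (u + v) = (trp c11)^[n] u + (trp c11)^[n] v := by
  induction n generalizing u v with
  | zero => rfl
  | succ n ih =>
    rw [Function.iterate_succ_apply, Function.iterate_succ_apply, Function.iterate_succ_apply, ← ih]
    congr 1
    funext j
    exact pr_add_left u v (c11 j)

/-- the iterate as a homomorphism -/
def it11 : V →+ V := AddMonoidHom.mk' (trp c11)^[11] (trp_iter_add 11)

theorem it11_eq : it11 = AddMonoidHom.id V := by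
  have h : ∀ i : Fin 6, it11 (Pi.single i 1) = Pi.single i 1 := fun i => funext (order11 i)
  apply AddMonoidHom.functions_ext'
  intro i
  apply AddMonoidHom.ext
  intro x
  show it11 (Pi.single i x) = Pi.single i x
  have h1 : (Pi.single i x : V) = x.val • (Pi.single i 1 : V) := by
    rw [← Pi.single_smul]
    congr 1
    rw [nsmul_eq_mul, mul_one, ZMod.natCast_zmod_val]
  rw [h1, map_nsmul, h]

theorem iter11 (w : V) : (trp c11)^[11] w = w := DFunLike.congr_fun it11_eq w

/-- **The multiplicities of a nonnegative function of total weight 12.** -/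
theorem mult (m : V → ℕ) (hs : ∑ w, m w = 12) (h0 : ∀ w, m w ≠ 0 → w 0 = 1) (h7 : ∀ w, m (trp c7 w) = m w)
    (h11 : ∀ w, m (trp c11 w) = m w) (w : V) : m w = if w ∈ Set.range W then 1 else 0 := by
  classical
  -- the fixed weight
  let τ : Equiv.Perm V :=
    { toFun := trp c11
      invFun := (trp c11)^[10]
      left_inv := fun w => by rw [← Function.iterate_succ_apply]; exact iter11 w
      right_inv := fun w => by rw [← Function.iterate_succ_apply' (trp c11) 10]; exact iter11 w }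
  have hτ : τ ^ 11 = 1 := by
    apply Equiv.ext
    intro w
    have h : ∀ n : ℕ, (τ ^ n) w = (trp c11)^[n] w := by
      intro n
      induction n with
      | zero => rfl
      | succ n ih =>
        rw [pow_succ', Equiv.Perm.mul_apply, ih, Function.iterate_succ_apply']
        rfl
    rw [h]
    exact iter11 w
  have : Fact (Nat.Prime 11) := ⟨by norm_num⟩
  have h5τ : τ (W 5) = W 5 := by
    show trp c11 (W 5) = W 5
    rw [trp_W11]
    rfl
  have hd := dvd_sum_of_free 11 τ hτ (fun w => if w = W 5 then 0 else m w) (fun w => by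
    show (if τ w = W 5 then 0 else m (τ w)) = if w = W 5 then 0 else m w
    by_cases hw : w = W 5
    · rw [hw, h5τ]
    · rw [if_neg hw, if_neg (fun h => hw (τ.injective (h.trans h5τ.symm)))]
      exact h11 w) (fun w hw hf => by
    have hw5 : w ≠ W 5 := fun h => hw (if_pos h)
    have hw0 : m w ≠ 0 := by rwa [if_neg hw5] at hw
    exact hw5 (funext (fix11 w (h0 w hw0) fun j => congrFun hf j)))
  have hsum : ∑ w, m w = m (W 5) + ∑ w, (if w = W 5 then 0 else m w) := by
    have e1 : ∑ w ∈ Finset.univ.erase (W 5), (if w = W 5 then 0 else m w) = ∑ w ∈ Finset.univ.erase (W 5), m w :=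
      Finset.sum_congr rfl fun w hw => if_neg (Finset.ne_of_mem_erase hw)
    rw [← Finset.add_sum_erase Finset.univ m (Finset.mem_univ (W 5)),
      ← Finset.add_sum_erase Finset.univ (fun w => if w = W 5 then 0 else m w) (Finset.mem_univ (W 5)), if_pos rfl,
      zero_add, e1]
  have hpos : 1 ≤ m (W 5) := by
    obtain ⟨k, hk⟩ := hd
    rw [hs, hk] at hsum
    omega
  -- constant on the twelve weights
  have hW7 : ∀ i, m (W (p7 i)) = m (W i) := fun i => by rw [← trp_W7, h7]
  have hW11 : ∀ i, m (W (p11 i)) = m (W i) := fun i => by rw [← trp_W11, h11]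
  have hW11k : ∀ k i, m (W (p11^[k] i)) = m (W i) := by
    intro k
    induction k with
    | zero => intro i; rfl
    | succ k ih =>
      intro i
      rw [Function.iterate_succ_apply, ih, hW11]
  have hz : ∀ i, m (W i) = m (W 0) := by
    intro i
    obtain ⟨k, -, l, -, h⟩ := trans1 i
    rw [← h, hW11k, hW7, hW11k]
  have hWi : ∀ i, m (W i) = m (W 5) := fun i => (hz i).trans (hz 5).symm
  -- the sum over the image
  have h1 : ∑ w ∈ Finset.univ.image W, m w = 12 * m (W 5) := by
    rw [Finset.sum_image (fun i _ j _ h => W_injective h), Finset.sum_congr rfl fun i _ => hWi i, Finset.sum_const,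
      Finset.card_univ, Fintype.card_fin, smul_eq_mul]
  have h2 : ∑ w ∈ Finset.univ.image W, m w + ∑ w ∈ Finset.univ \ Finset.univ.image W, m w = 12 := by
    have e1 := Finset.sum_sdiff (f := m) (Finset.subset_univ (Finset.univ.image W))
    rw [add_comm, e1, hs]
  have h3 : m (W 5) = 1 := by omega
  have h4 : ∑ w ∈ Finset.univ \ Finset.univ.image W, m w = 0 := by omega
  by_cases hw : w ∈ Set.range W
  · rw [if_pos hw]
    obtain ⟨i, rfl⟩ := hw
    rw [hWi, h3]
  · rw [if_neg hw]
    refine (Finset.sum_eq_zero_iff.1 h4) w ?_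
    rw [Finset.mem_sdiff]
    refine ⟨Finset.mem_univ _, fun h => hw ?_⟩
    obtain ⟨i, -, hi⟩ := Finset.mem_image.1 h
    exact ⟨i, hi⟩

end Cfsg.Agent.H299.K4.SuzC
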