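import Cfsg.Agent.H299.K4.Orb
import Cfsg.Agent.Characters.CCBasic
import Cfsg.Agent.LThreeCo1.SylCls
import Mathlib.RingTheory.RootsOfUnity.Complex

/-!
# Characters of `3^6` (helper299, for S4947 and S4547)

* `lam w` : the linear character `v ↦ ζ ^ ⟨w, v⟩` of `V = (ZMod 3)^6`;
* `exists_mult` : a character of `V` is `∑ c w • lam w`;
* `lam_comp_lin` : the transposed map.
-/

set_option autoImplicit false

namespace Cfsg.Agent.H299.K4.Wt

open Cfsg Cfsg.Agent.Characters.Core
open Cfsg.Agent.LThreeCo1.AGrp (V lin)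
open scoped ComplexConjugate

/-- a primitive cube root of unity -/
noncomputable def ζ : ℂ := Complex.exp (2 * Real.pi * Complex.I / (3 : ℕ))

theorem ζ_prim : IsPrimitiveRoot ζ 3 := Complex.isPrimitiveRoot_exp 3 (by norm_num)

theorem ζ_pow : ζ ^ 3 = 1 := ζ_prim.pow_eq_one

theorem ζ_sum : 1 + ζ + ζ ^ 2 = 0 := by
  have h1 : ζ ≠ 1 := ζ_prim.ne_one (by norm_num)
  have h2 : (ζ - 1) * (1 + ζ + ζ ^ 2) = 0 := by
    have := ζ_pow
    linear_combination this
  exact (mul_eq_zero.1 h2).resolve_left (sub_ne_zero.2 h1)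

theorem ζ_conj : conj ζ = ζ ^ 2 := by
  have h1 : conj ζ * ζ = 1 := by
    rw [← Complex.normSq_eq_conj_mul_self, Complex.normSq_eq_norm_sq, Complex.norm_eq_one_of_pow_eq_one ζ_pow (by norm_num)]
    norm_num
  calc conj ζ = conj ζ * ζ * ζ ^ 2 := by
        have := ζ_pow
        linear_combination (-conj ζ) * this
    _ = ζ ^ 2 := by rw [h1, one_mul]

/-- `ζ ^ x` -/
noncomputable def zp (x : ZMod 3) : ℂ := ζ ^ x.val

theorem zp_zero : zp 0 = 1 := by unfold zp; simp

theorem zp_one : zp 1 = ζ := by
  unfold zp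
  rw [show (1 : ZMod 3).val = 1 from rfl, pow_one]

theorem zp_add (x y : ZMod 3) : zp (x + y) = zp x * zp y := by
  have h : ζ ^ ((x.val + y.val) % 3 + 3 * ((x.val + y.val) / 3)) = ζ ^ (x.val + y.val) := by rw [Nat.mod_add_div]
  unfold zp
  rw [← pow_add, ZMod.val_add, ← h, pow_add, pow_mul, ζ_pow, one_pow, mul_one]

theorem zp_conj (x : ZMod 3) : conj (zp x) = zp (-x) := by
  have h : zp (-x) * zp x = 1 := by rw [← zp_add, neg_add_cancel, zp_zero]
  have h2 : conj (zp x) * zp x = 1 := by
    unfold zp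
    rw [← Complex.normSq_eq_conj_mul_self, Complex.normSq_eq_norm_sq,
      Complex.norm_eq_one_of_pow_eq_one (n := 3) (by rw [← pow_mul, mul_comm, pow_mul, ζ_pow, one_pow]) (by norm_num)]
    norm_num
  have h3 : zp x ≠ 0 := fun h0 => by rw [h0, mul_zero] at h; exact zero_ne_one h
  exact mul_right_cancel₀ h3 (h2.trans h.symm)

theorem zp_injective : Function.Injective zp := by
  intro x y h
  have h1 := ζ_prim.pow_inj (ZMod.val_lt x) (ZMod.val_lt y) h
  exact ZMod.val_injective 3 h1

/-- the pairing -/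
def pr (w v : V) : ZMod 3 := ∑ i, w i * v i

theorem pr_add_right (w u v : V) : pr w (u + v) = pr w u + pr w v := by
  unfold pr
  rw [← Finset.sum_add_distrib]
  exact Finset.sum_congr rfl fun i _ => by rw [Pi.add_apply]; ring

theorem pr_add_left (w u v : V) : pr (w + u) v = pr w v + pr u v := by
  unfold pr
  rw [← Finset.sum_add_distrib]
  exact Finset.sum_congr rfl fun i _ => by rw [Pi.add_apply]; ring

theorem pr_neg_left (w v : V) : pr (-w) v = -pr w v := by
  unfold pr
  rw [← Finset.sum_neg_distrib]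
  exact Finset.sum_congr rfl fun i _ => by rw [Pi.neg_apply]; ring

theorem pr_single (w : V) (i : Fin 6) : pr w (Pi.single i 1) = w i := by
  unfold pr
  rw [Finset.sum_eq_single i]
  · simp
  · intro j _ hj
    rw [Pi.single_eq_of_ne hj, mul_zero]
  · intro h
    exact absurd (Finset.mem_univ i) h

/-- the group `3^6` -/
abbrev E : Type := Multiplicative V

/-- the linear character of weight `w` -/
noncomputable def lam (w : V) : E → ℂ := fun v => zp (pr w (Multiplicative.toAdd v))

/-- as a homomorphism -/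
noncomputable def lamH (w : V) : E →* ℂ where
  toFun := lam w
  map_one' := by
    show zp (pr w 0) = 1
    have : pr w 0 = 0 := by unfold pr; simp
    rw [this, zp_zero]
  map_mul' u v := by
    show zp (pr w (Multiplicative.toAdd u + Multiplicative.toAdd v)) = _
    rw [pr_add_right, zp_add]
    rfl

theorem lam_mul (w : V) (u v : E) : lam w (u * v) = lam w u * lam w v := (lamH w).map_mul u v

theorem lam_add (w w' : V) (v : E) : lam (w + w') v = lam w v * lam w' v := by
  unfold lam
  rw [pr_add_left, zp_add]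

theorem lam_zero : lam 0 = fun _ => 1 := by
  funext v
  unfold lam
  have : pr 0 (Multiplicative.toAdd v) = 0 := by unfold pr; simp
  rw [this, zp_zero]

theorem lam_conj (w : V) (v : E) : conj (lam w v) = lam (-w) v := by
  unfold lam
  rw [zp_conj, pr_neg_left]

theorem lam_single (w : V) (i : Fin 6) : lam w (Multiplicative.ofAdd (Pi.single i 1)) = zp (w i) := by
  unfold lam
  rw [toAdd_ofAdd, pr_single]

theorem lam_injective : Function.Injective lam := by
  intro w w' h
  funext i
  apply zp_injective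
  rw [← lam_single, ← lam_single, h]

theorem isIrr_lam (w : V) : IsIrrCharacter E (lam w) := by
  have h := Cfsg.Agent.Characters.Linear.isIrrCharacter_hom (lamH w).toHomUnits
  have h2 : (fun g => (((lamH w).toHomUnits g : ℂˣ) : ℂ)) = lam w := by
    funext g
    exact MonoidHom.coe_toHomUnits (lamH w) g
  rwa [h2] at h

/-- all the irreducible characters -/
theorem exists_lam (η : IrrCharacter E) : ∃ w : V, lam w = (η : E → ℂ) := by
  have hf : Finite (IrrCharacter E) := finite_irr
  let F : V → IrrCharacter E := fun w => ⟨lam w, isIrr_lam w⟩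
  have hF : Function.Injective F := fun w w' h => lam_injective (congrArg Subtype.val h)
  have hc : Nat.card V = Nat.card (IrrCharacter E) := by
    rw [Cfsg.Agent.Characters.CCBasic.card_irr_of_comm (fun a b : E => mul_comm a b)]
    rfl
  have hb : Function.Bijective F := (Nat.bijective_iff_injective_and_card F).2 ⟨hF, hc⟩
  obtain ⟨w, hw⟩ := hb.2 η
  exact ⟨w, congrArg Subtype.val hw⟩

theorem exists_mult {θ : E → ℂ} (hθ : IsCharacter E θ) :
    ∃ c : V → ℕ, (∀ w, classInner θ (lam w) = c w) ∧ θ = ∑ w, (c w : ℂ) • lam w := by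
  classical
  have : Finite (IrrCharacter E) := finite_irr
  have := Fintype.ofFinite (IrrCharacter E)
  obtain ⟨n, hn⟩ := exists_nat_comb hθ
  let F : V → IrrCharacter E := fun w => ⟨lam w, isIrr_lam w⟩
  have hF : Function.Bijective F := ⟨fun w w' h => lam_injective (congrArg Subtype.val h), fun η => by
    obtain ⟨w, hw⟩ := exists_lam η
    exact ⟨w, Subtype.ext hw⟩⟩
  have h1 : θ = ∑ w, ((n (F w) : ℕ) : ℂ) • lam w := by
    funext e
    have h2 := hF.sum_comp (fun η : IrrCharacter E => ((n η : ℕ) : ℂ) * (η : E → ℂ) e)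
    rw [hn, Finset.sum_apply, Finset.sum_apply]
    have h3 : ∀ η : IrrCharacter E, (n η • (η : E → ℂ)) e = ((n η : ℕ) : ℂ) * (η : E → ℂ) e := fun η => by
      rw [Pi.smul_apply, nsmul_eq_mul]
    rw [Finset.sum_congr rfl fun η _ => h3 η, ← h2]
    rfl
  refine ⟨fun w => n (F w), fun w => ?_, h1⟩
  rw [h1, classInner_sum_left, Finset.sum_eq_single w]
  · rw [classInner_smul_left, classInner_irr_self (isIrr_lam w), mul_one]
  · intro w' _ hw'
    rw [classInner_smul_left, classInner_irr_ne (isIrr_lam w') (isIrr_lam w) (fun h => hw' (lam_injective h)), mul_zero]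
  · intro h
    exact absurd (Finset.mem_univ w) h

/-- the transposed map -/
def trp (c : Fin 6 → V) (w : V) : V := fun j => pr w (c j)

theorem pr_lin (c : Fin 6 → V) (w v : V) : pr w (lin c v) = pr (trp c w) v := by
  have h : lin c v = ∑ j, v j • c j := by
    funext i
    rw [Finset.sum_apply, Fin.sum_univ_six]
    simp only [Pi.smul_apply, smul_eq_mul]
    show v 0 * c 0 i + (v 1 * c 1 i + (v 2 * c 2 i + (v 3 * c 3 i + (v 4 * c 4 i + v 5 * c 5 i)))) = _
    ring
  rw [h]
  unfold pr trp
  simp only [Finset.sum_apply, Pi.smul_apply, smul_eq_mul, Finset.mul_sum]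
  rw [Finset.sum_comm]
  refine Finset.sum_congr rfl fun j _ => ?_
  unfold pr
  rw [Finset.sum_mul]
  exact Finset.sum_congr rfl fun i _ => by ring

theorem lam_lin (c : Fin 6 → V) (w v : V) :
    lam w (Multiplicative.ofAdd (lin c v)) = lam (trp c w) (Multiplicative.ofAdd v) := by
  unfold lam
  rw [toAdd_ofAdd, toAdd_ofAdd, pr_lin]

end Cfsg.Agent.H299.K4.Wt
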